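import Groth.Agent.Lib.BlowPt28.Surface
import Groth.Agent.Lib.ArSurf29.Inter
import Groth.Agent.Lib.Contract29.ContractInter
import Groth.Agent.Lib.SurfRR28.Basic
import Groth.Agent.Lib.SurfRR28.Projective
import Groth.Agent.Lib.HodgeIndex.Curves
import Groth.Agent.Lib.CurveMult.ProjSmooth

/-!
# Applications of the point blow-up computations
-/

universe u

set_option autoImplicit false
set_option linter.all false
set_option backward.isDefEq.respectTransparency false
set_option maxHeartbeats 1000000

open CategoryTheory CategoryTheory.Limits AlgebraicGeometry TopologicalSpace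

noncomputable section

namespace GrothLib.BlowPt28

open GrothLib.Cube (Pic clsMod pull)
open GrothLib.HodgeIndex (rep isInv_rep cls_rep chi euler_eq_chi chi_one isect)

variable (k : Type u) [Field k] {X X' : Scheme.{u}} [X.Over (Spec (CommRingCat.of k))]

/-- Over an algebraically closed field closed points have degree one. -/
theorem ptDeg_eq_one [IsAlgClosed k] [LocallyOfFiniteType (X ↘ Spec (CommRingCat.of k))] {x : X}
    (hx : IsClosed ({x} : Set X)) : ptDeg k x = 1 := by
  letI := Curv2.resAlgebra k X x
  let e := residueFieldIsoBase (X ↘ Spec (CommRingCat.of k)) x hx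
  have h : e.inv = CommRingCat.ofHom (Curv2.resMap k X x) := by
    apply Spec.map_injective
    rw [SpecMap_residueFieldIsoBase_inv, GrothLib.Ample.ProjMap.eq_toSpecΓ_toGlobal (X ↘ Spec (CommRingCat.of k)),
      Scheme.fromSpecResidueField, Category.assoc, Scheme.fromSpecStalk_toSpecΓ_assoc, ← Spec.map_comp, ← Spec.map_comp]
    rfl
  have hb : Function.Bijective (algebraMap k (X.residueField x)) := by
    show Function.Bijective (Curv2.resMap k X x)
    have := ConcreteCategory.bijective_of_isIso e.inv
    rwa [h] at this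
  show Module.finrank k (X.residueField x) = 1
  exact (LinearEquiv.ofBijective (Algebra.linearMap k (X.residueField x)) hb).finrank_eq.symm.trans
    (Module.finrank_self k)

variable [X'.Over (Spec (CommRingCat.of k))]
  [IsProper (X ↘ Spec (CommRingCat.of k))]
  (hreg : ∀ y : X, IsRegularLocalRing (X.presheaf.stalk y))
  {x : X} (hx : IsClosed ({x} : Set X)) (hd : ringKrullDim (X.presheaf.stalk x) = 2) {b : X' ⟶ X}
  (hb : _root_.BlowUp.IsBlowUp b (Scheme.IdealSheafData.vanishingIdeal ⟨{x}, hx⟩))
  (hover : b ≫ X ↘ Spec (CommRingCat.of k) = X' ↘ Spec (CommRingCat.of k))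

include hreg hd hb hover in
/-- The intersection rules. -/
theorem intNum_rules (hdimX : topologicalKrullDim X ≤ ((2 : ℕ) : WithBot ℕ∞))
    {L M : X.Modules} (hL : PicF.IsInvertible L) (hM : PicF.IsInvertible M) :
    FGA.intNum k X' 2 ![(Scheme.Modules.pullback b).obj L, (Scheme.Modules.pullback b).obj M] (Coh.structureModule X') =
        FGA.intNum k X 2 ![L, M] (Coh.structureModule X) ∧
      FGA.intNum k X' 2 ![(Scheme.Modules.pullback b).obj L,
          ClSub.idealMod (_root_.BlowUp.exceptional b (Scheme.IdealSheafData.vanishingIdeal ⟨{x}, hx⟩))]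
          (Coh.structureModule X') = 0 ∧
      FGA.intNum k X' 2 ![ClSub.idealMod (_root_.BlowUp.exceptional b (Scheme.IdealSheafData.vanishingIdeal ⟨{x}, hx⟩)),
          ClSub.idealMod (_root_.BlowUp.exceptional b (Scheme.IdealSheafData.vanishingIdeal ⟨{x}, hx⟩))]
          (Coh.structureModule X') = -(ptDeg k x : ℤ) := by
  haveI := isProper_over k hx hb hover
  haveI := Euler.isNoetherian_of_proper (X := X) k
  obtain ⟨hI, -, h1, h2, h3⟩ := main k hreg hx hd hb hover
  have hd' := dim_le_two hreg hx hd hb hdimX
  have hbL := Ample.isInvertible_pullback b hL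
  have hbM := Ample.isInvertible_pullback b hM
  rw [intNum_eq k hd' hbL hbM, intNum_eq k hd' hbL hI, intNum_eq k hd' hI hI, intNum_eq k hdimX hL hM,
    Cube.clsMod_pullback b hL, Cube.clsMod_pullback b hM, h1, h2, h3]
  exact ⟨rfl, rfl, rfl⟩

/-- The Euler characteristic of a twist on the projective plane. -/
theorem euler_plane (a : ℤ) :
    2 * Curv2.euler k (CohB1.ProjSpace 2 k) (Twist.twistProjSpace 2 k a) = (a + 1) * (a + 2) := by
  rw [Euler.euler_eq_sum k _ (N := 2 + 1) fun m hm => ProjCohom.subsingleton_HH (fun h => by omega) (fun h => by omega),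
    ProjCohom.euler_twist k 2 two_pos a]
  have h := Ring.descPochhammer_eq_factorial_smul_choose (a + ((2 : ℕ) : ℤ)) 2
  rw [← Polynomial.eval_eq_smeval] at h
  simp [descPochhammer_succ_left] at h
  push_cast at h ⊢
  ring_nf at h ⊢
  linarith

end GrothLib.BlowPt28
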