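import Groth.Agent.Lib.BlowPt28.Surface
import Groth.Agent.Lib.BlowPt28.Apply
import Groth.Agent.Lib.Contract29.PicBlowUp
import Groth.Agent.Lib.Contract29.ContractInter
import Groth.Agent.Lib.ProjPic26.Main
import Groth.Agent.Lib.InvHartogs26.Basic
import Groth.Agent.Lib.ExcP1.Universal
import Groth.Agent.Lib.ExtPowX.Pullback
import Groth.Agent.Lib.ExtPowX.Basic
import Groth.Agent.Lib.OmegaSheaf.Basic
import Groth.Agent.Lib.OmegaAb15.Basic
import Groth.Agent.Lib.SurfRR28.Basic
import Groth.Agent.Lib.SurfRR28.Projective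
import Groth.Agent.Lib.HodgeIndex.IdealLe

/-!
# The canonical class of the blow-up of a point of a surface
-/

universe u

set_option autoImplicit false
set_option linter.all false
set_option backward.isDefEq.respectTransparency false
set_option maxHeartbeats 2000000

open CategoryTheory CategoryTheory.Limits AlgebraicGeometry TopologicalSpace

noncomputable section

namespace GrothLib.BlowPt28

open GrothLib.Cube (Pic clsMod pull)
open GrothLib.HodgeIndex (rep isInv_rep cls_rep chi euler_eq_chi chi_one isect)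

section decomp

variable {X X' : Scheme.{u}} [IsLocallyNoetherian X]
  (hreg : ∀ y : X, IsRegularLocalRing (X.presheaf.stalk y))
  {x : X} (hx : IsClosed ({x} : Set X)) (hd : ringKrullDim (X.presheaf.stalk x) = 2) {b : X' ⟶ X}
  (hb : _root_.BlowUp.IsBlowUp b (Scheme.IdealSheafData.vanishingIdeal ⟨{x}, hx⟩))

include hreg hd in
/-- Every class on the blow-up is a pull-back times a power of the exceptional class. -/
theorem exists_decomp (w : Pic X') :
    ∃ (z : Pic X) (s : ℤ), w = pull b z * clsMod (IdealModSec.isInvertible_of_isEffCartier hb.1) ^ s := by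
  haveI : IsProper b := GrothLib.BlowUpProper.isProper_of_isBlowUp hb
  haveI := hreg x
  set Ex := _root_.BlowUp.exceptional b (Scheme.IdealSheafData.vanishingIdeal ⟨{x}, hx⟩)
  obtain ⟨e, he, ⟨te⟩⟩ := GrothLib.ExcP1.exists_iso_point hx hd hb
  let κ := X.residueField x
  haveI : IsIntegral (CohB1.ProjSpace 1 κ) := ProjDim.isIntegral_proj κ 1
  let jE : CohB1.ProjSpace 1 κ ⟶ X' := e.hom ≫ Ex.subschemeι
  let ec := clsMod (IdealModSec.isInvertible_of_isEffCartier hb.1)
  let t1 : Pic (CohB1.ProjSpace 1 κ) := clsMod (CMReg.isInvertible_twist (n := 1) (k := κ) 1)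
  have hjE : pull jE ec = t1 := by
    rw [← Cube.clsMod_pullback jE, Cube.clsMod_eq_iff]
    exact ⟨te⟩
  obtain ⟨s, ⟨ws⟩⟩ := ProjPic26.exists_iso_twist (R := κ) (n := 1) (Ample.isInvertible_pullback jE (isInv_rep w))
  have hs : pull jE w = t1 ^ s := by
    rw [← Contract29.cls_twist_zpow κ s, ← cls_rep w, ← Cube.clsMod_pullback jE (isInv_rep w)]
    exact (Cube.clsMod_eq_iff _ _).2 ⟨ws⟩
  have htriv : pull jE (clsMod (isInv_rep (w * ec ^ (-s)))) = 1 := by
    rw [cls_rep, map_mul, map_zpow, hjE, hs, ← zpow_add, add_neg_cancel, zpow_zero]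
  have hfib : Set.range jE = b ⁻¹' {x} := by
    show Set.range (e.hom ≫ Ex.subschemeι) = _
    rw [Scheme.Hom.comp_base, TopCat.coe_comp, Set.range_comp,
      show Set.range e.hom = Set.univ from Set.range_eq_univ.2 e.hom.surjective, Set.image_univ,
      Scheme.IdealSheafData.range_subschemeι, Scheme.IdealSheafData.support_comap]
    show b ⁻¹' ((Scheme.IdealSheafData.vanishingIdeal ⟨{x}, hx⟩ : X.IdealSheafData).support : Set _) = _
    rw [Scheme.IdealSheafData.coe_support_vanishingIdeal]
    rfl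
  obtain ⟨Q, hQ⟩ := Contract29.exists_descent_of_trivial jE b
    (fun V => isIso_app hreg hx hd hb V) hx hd hb hfib (isInv_rep _) htriv
  refine ⟨Q, s, ?_⟩
  rw [hQ, cls_rep, mul_assoc, ← zpow_add, neg_add_cancel, zpow_zero]
  exact (mul_one _).symm

include hreg hd in
/-- Classes which agree away from a closed point of codimension two are equal. -/
theorem eq_of_off_point (U : X.Opens) (hU : ∀ y : X, y ∉ U → y = x) (z z' : Pic X)
    (h : pull U.ι z = pull U.ι z') : z = z' := by
  have hdepth : ∀ y : X, y ∉ U → (2 : ℕ∞) ≤ LocCoh.depth (X.presheaf.stalk y) (X.presheaf.stalk y) := by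
    intro y hy
    obtain rfl := hU y hy
    haveI := hreg y
    exact ExcP1.two_le_depth _ hd
  rw [← cls_rep z, ← cls_rep z'] at h ⊢
  rw [← Cube.clsMod_pullback U.ι (isInv_rep z), ← Cube.clsMod_pullback U.ι (isInv_rep z'), Cube.clsMod_eq_iff] at h
  obtain ⟨ε⟩ := h
  exact (Cube.clsMod_eq_iff _ _).2 (InvHartogs26.nonempty_iso_of_restrict hdepth (isInv_rep z) (isInv_rep z')
    (((Scheme.Modules.restrictFunctorIsoPullback U.ι).app _) ≪≫ ε ≪≫
      ((Scheme.Modules.restrictFunctorIsoPullback U.ι).app _).symm))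

end decomp

/-- Canonical modules restrict to canonical modules. -/
theorem cls_pull_top {S X V : Scheme.{u}} (j : V ⟶ X) [IsOpenImmersion j] (p : X ⟶ S) [QuasiSeparated p] [Smooth p]
    {n : ℕ} {W : X.Modules} (hW : ExtPow.IsExtPow n (Omega.sheaf p) W) (hWi : PicF.IsInvertible W)
    {L : V.Modules} (hL : ExtPow.IsExtPow n (Omega.sheaf (j ≫ p)) L) (hLi : PicF.IsInvertible L) :
    pull j (clsMod hWi) = clsMod hLi := by
  obtain ⟨e⟩ := OmegaSheaf.nonempty_pullback_sheaf j p
  rw [← Cube.clsMod_pullback j hWi]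
  exact (Cube.clsMod_eq_iff _ _).2 (ExtPowX.nonempty_iso
    (ExtPowX.isExtPow_pullback j (OmegaAb15.isFinLocFree_omega p) hW) hL e)

variable (k : Type u) [Field k] [IsAlgClosed k] {X X' : Scheme.{u}} [X.Over (Spec (CommRingCat.of k))]
  [X'.Over (Spec (CommRingCat.of k))] [IsProper (X ↘ Spec (CommRingCat.of k))]
  [Smooth (X ↘ Spec (CommRingCat.of k))] [IsProper (X' ↘ Spec (CommRingCat.of k))]
  [Smooth (X' ↘ Spec (CommRingCat.of k))]
  (hdim : ∀ Z ∈ irreducibleComponents (X : Type u), topologicalKrullDim Z = 2)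
  (hdim' : ∀ Z ∈ irreducibleComponents (X' : Type u), topologicalKrullDim Z = 2)
  {x : X} (hx : IsClosed ({x} : Set X)) {b : X' ⟶ X}
  (hb : _root_.BlowUp.IsBlowUp b (Scheme.IdealSheafData.vanishingIdeal ⟨{x}, hx⟩))
  (hover : b ≫ X ↘ Spec (CommRingCat.of k) = X' ↘ Spec (CommRingCat.of k))

include hdim hdim' hover in
/-- `K_{X'} = π^*K_X + E`, and the self-intersection drops by one. -/
theorem canonical {W : X.Modules} (hW : ExtPow.IsExtPow 2 (Omega.sheaf (X ↘ Spec (CommRingCat.of k))) W)
    {W' : X'.Modules} (hW' : ExtPow.IsExtPow 2 (Omega.sheaf (X' ↘ Spec (CommRingCat.of k))) W') :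
    ∃ (hWi : PicF.IsInvertible W) (hWi' : PicF.IsInvertible W'),
      clsMod hWi' * clsMod (IdealModSec.isInvertible_of_isEffCartier hb.1) = pull b (clsMod hWi) ∧
      isect k (clsMod hWi') (clsMod hWi') = isect k (clsMod hWi) (clsMod hWi) - 1 := by
  haveI := Euler.isNoetherian_of_proper (X := X) k
  haveI := Euler.isNoetherian_of_proper (X := X') k
  have hreg := HodgeIndex.regular_of_smooth k (X := X)
  have hd := dim_stalk_closed k hdim hx
  haveI := SurfRR28.smoothOfRelativeDimension_two k hdim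
  haveI := SurfRR28.smoothOfRelativeDimension_two k hdim'
  obtain ⟨n, ι, hι, hιf⟩ := SurfRR28.exists_closedImmersion k hdim
  obtain ⟨n', ι', hι', hιf'⟩ := SurfRR28.exists_closedImmersion k hdim'
  haveI := hι
  haveI := hι'
  have hWi := SurfRR28.isInvertible_canonical k ι hιf W hW
  have hWi' := SurfRR28.isInvertible_canonical k ι' hιf' W' hW'
  let J := Scheme.IdealSheafData.vanishingIdeal (⟨{x}, hx⟩ : Closeds X)
  let U : X.Opens := J.support.compl
  let V : X'.Opens := b ⁻¹ᵁ U
  haveI : IsIso (b ∣_ U) := GrothLib.BlowUp.isIso_off_center hb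
  haveI : IsOpenImmersion (V.ι ≫ b) := by rw [← morphismRestrict_ι]; infer_instance
  let ec := clsMod (IdealModSec.isInvertible_of_isEffCartier hb.1)
  have hVe : pull V.ι ec = 1 := by
    have htop : (_root_.BlowUp.exceptional b J).comap V.ι = ⊤ := by
      rw [← Scheme.IdealSheafData.support_eq_bot_iff, Scheme.IdealSheafData.support_comap,
        Scheme.IdealSheafData.support_comap]
      ext w
      simp only [Closeds.coe_preimage, Set.mem_preimage, Closeds.coe_bot, Set.mem_empty_iff_false, iff_false]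
      exact w.2
    have hT : PicF.IsInvertible (ClSub.idealMod ((_root_.BlowUp.exceptional b J).comap V.ι)) := by
      rw [htop]; exact IdealModSec.isInvertible_of_isEffCartier GrothLib.BlowUp.isEffCartierIdeal_top
    rw [Contract29.pull_cls_comap V.ι _ _ hT]
    revert hT
    rw [htop]
    exact fun hT => HodgeIndex.cls_idealMod_top hT
  obtain ⟨z, s, hz⟩ := exists_decomp hreg hx hd hb (clsMod hWi')
  -- off the centre
  have hoff : pull (V.ι ≫ b) (clsMod hWi) = pull V.ι (clsMod hWi') := by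
    let L := (Scheme.Modules.pullback V.ι).obj W'
    obtain ⟨e⟩ := OmegaSheaf.nonempty_pullback_sheaf V.ι (X' ↘ Spec (CommRingCat.of k))
    have hL : ExtPow.IsExtPow 2 (Omega.sheaf ((V.ι ≫ b) ≫ X ↘ Spec (CommRingCat.of k))) L := by
      rw [Category.assoc, hover]
      let M := ExtPowX.wedge (Omega.sheaf (V.ι ≫ X' ↘ Spec (CommRingCat.of k))) 2
      have hf : FlatMod.IsFinLocFree (Omega.sheaf (V.ι ≫ X' ↘ Spec (CommRingCat.of k))) :=
        OmegaAb15.isFinLocFree_omega _
      obtain ⟨c⟩ := ExtPowX.nonempty_iso (ExtPowX.isExtPow_wedge hf 2)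
        (ExtPowX.isExtPow_pullback V.ι (OmegaAb15.isFinLocFree_omega (X' ↘ Spec (CommRingCat.of k))) hW') e.symm
      exact ExtPowX.isExtPow_of_iso (ExtPowX.isExtPow_wedge hf 2) c
    have hLi : PicF.IsInvertible L := Ample.isInvertible_pullback V.ι hWi'
    rw [cls_pull_top (V.ι ≫ b) (X ↘ Spec (CommRingCat.of k)) hW hWi hL hLi, ← Cube.clsMod_pullback V.ι hWi']
  have hzW : z = clsMod hWi := by
    refine eq_of_off_point hreg hd U (fun y hy => ?_) z (clsMod hWi) ?_
    · have : y ∈ (J.support : Set X) := not_not.1 hy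
      rwa [Scheme.IdealSheafData.coe_support_vanishingIdeal] at this
    · rw [hz, map_mul, map_zpow, hVe, one_zpow, mul_one, Cube.pull_comp, ← morphismRestrict_ι,
        ← Cube.pull_comp, ← Cube.pull_comp] at hoff
      have h := congrArg (pull (inv (b ∣_ U))) hoff
      rwa [Cube.pull_comp (inv (b ∣_ U)) (b ∣_ U), Cube.pull_comp (inv (b ∣_ U)) (b ∣_ U), IsIso.inv_hom_id,
        Cube.pull_id, Cube.pull_id, eq_comm] at h
  -- the multiplicity
  obtain ⟨hI, key, h1, h2, h3⟩ := main k hreg hx hd hb hover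
  rw [ptDeg_eq_one k hx] at h3 key
  have hdle' := SurfRR28.topologicalKrullDim_le_two' hdim'
  have hIe : PicF.IsInvertible (ClSub.idealMod (_root_.BlowUp.exceptional b J)) := hI
  have hRR := SurfRR28.riemann_roch k ι' hιf' W' hW' hI
  rw [euler_eq_chi k hI, ← chi_one k, intNum_eq k hdle' hI hI, intNum_eq k hdle' hI hWi', h3] at hRR
  have hk1 := key 1 1
  have hk0 := key 1 0
  rw [zpow_one, map_one, one_mul] at hk1
  rw [zpow_zero, map_one, one_mul] at hk0
  have hew : isect k (clsMod hI) (clsMod hWi') = -s := by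
    rw [hz, hzW, HodgeIndex.isect_mul_right k hdle', HodgeIndex.isect_comm k (clsMod hI), h2]
    rcases s.eq_nat_or_neg with ⟨m, rfl | rfl⟩
    · rw [zpow_natCast]
      erw [HodgeIndex.isect_pow_right k hdle', h3]
      push_cast; ring
    · rw [zpow_neg, zpow_natCast]
      erw [HodgeIndex.isect_inv_right k hdle', HodgeIndex.isect_pow_right k hdle', h3]
      push_cast; ring
  rw [hew] at hRR
  push_cast at hRR hk1 hk0
  have hs : s = -1 := by linarith
  refine ⟨hWi, hWi', ?_, ?_⟩
  · rw [hz, hzW, hs, zpow_neg_one, mul_assoc]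
    erw [inv_mul_cancel, mul_one]
  · rw [hz, hzW, hs, zpow_neg_one]
    simp only [HodgeIndex.isect_mul_left k hdle', HodgeIndex.isect_mul_right k hdle',
      HodgeIndex.isect_inv_left k hdle', HodgeIndex.isect_inv_right k hdle', h1]
    erw [h2, HodgeIndex.isect_comm k (clsMod _) (pull b _), h2, h3]
    push_cast; ring

end GrothLib.BlowPt28
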