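import Groth.Agent.Lib.BlowPt28.Push
import Groth.Agent.Lib.HypSq28.Seq
import Groth.Agent.Lib.Contract29.Twist
import Groth.Agent.Lib.CurveMult.P1Split
import Groth.Agent.Lib.ArSurf29.GenusZeroComp
import Groth.Agent.Lib.Snapper.PushTop
import Groth.Agent.Lib.Cube.AbVar
import Groth.Agent.Lib.RpushSupp20.Main

/-!
# Euler characteristics on the blow-up of a point of a regular surface
-/

universe u

set_option autoImplicit false
set_option linter.all false
set_option backward.isDefEq.respectTransparency false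
set_option maxHeartbeats 1000000

open CategoryTheory CategoryTheory.Limits AlgebraicGeometry TopologicalSpace

noncomputable section

namespace GrothLib.BlowPt28

open GrothLib.Cube (Pic clsMod pull)
open GrothLib.HodgeIndex (rep isInv_rep cls_rep chi euler_eq_chi chi_one isect)

variable (k : Type u) [Field k] {X X' : Scheme.{u}} [X.Over (Spec (CommRingCat.of k))]
  [X'.Over (Spec (CommRingCat.of k))] [IsProper (X ↘ Spec (CommRingCat.of k))]
  (hreg : ∀ y : X, IsRegularLocalRing (X.presheaf.stalk y))
  {x : X} (hx : IsClosed ({x} : Set X)) (hd : ringKrullDim (X.presheaf.stalk x) = 2) {b : X' ⟶ X}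
  (hb : _root_.BlowUp.IsBlowUp b (Scheme.IdealSheafData.vanishingIdeal ⟨{x}, hx⟩))
  (hover : b ≫ X ↘ Spec (CommRingCat.of k) = X' ↘ Spec (CommRingCat.of k))

/-- The degree of the centre over the base field. -/
def ptDeg (x : X) : ℕ :=
  letI := Curv2.resAlgebra k X x
  Module.finrank k (X.residueField x)

include hb hover in
theorem isProper_over : IsProper (X' ↘ Spec (CommRingCat.of k)) := by
  haveI := Euler.isNoetherian_of_proper (X := X) k
  haveI : IsProper b := GrothLib.BlowUpProper.isProper_of_isBlowUp hb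
  rw [← hover]
  infer_instance

include hreg hd hb hover in
/-- Pull-back keeps Euler characteristics. -/
theorem chi_pull (z : Pic X) : chi k (pull b z) = chi k z := by
  haveI := isProper_over k hx hb hover
  haveI := Euler.isNoetherian_of_proper (X := X) k
  haveI := Euler.isNoetherian_of_proper (X := X') k
  letI := RpushSupp20.hasInjectiveResolutions X'
  have hN := isInv_rep z
  haveI : IsProper b := GrothLib.BlowUpProper.isProper_of_isBlowUp hb
  let O := Coh.structureModule X'
  let G := CohB1.tensorMod ((Scheme.Modules.pullback b).obj (rep z)) O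
  have hbN := Ample.isInvertible_pullback b hN
  have eG : G ≅ (Scheme.Modules.pullback b).obj (rep z) := Euler.tFUnitIso _
  have hG : Coh.IsCoh G := QCoh.isCoh_of_iso eG.symm (Euler.isCoh_of_isInvertible hbN)
  have hi : ∀ i, Curv2.euler k X ((Coh.Rpush b i).obj G) =
      Curv2.euler k X ((Euler.tF (rep z)).obj ((Coh.Rpush b i).obj O)) := fun i => by
    obtain ⟨e⟩ := Groth.Agent.S0927.result b O (rep z) (Euler.isFinLocFree_of_isInvertible hN) i
    exact Euler.euler_of_iso k ((((OX.tensorBraiding (X := X)).app (rep z)).app ((Coh.Rpush b i).obj O) ≪≫ e).symm)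
  have h : Curv2.euler k X' G = _ := Snapper.euler_eq_finsum_Rpush k hover G hG
  rw [finsum_eq_single _ 0 (fun i hi' => by
      rw [hi i, Snapper.euler_eq_zero_of_isZero k ((Euler.tF (rep z)).map_isZero
        (isZero_Rpush_module hreg hx hd hb i (Nat.pos_of_ne_zero hi'))), mul_zero]),
    pow_zero, one_mul, hi 0, Euler.euler_of_iso k eG,
    euler_eq_chi k hbN, Cube.clsMod_pullback b hN, cls_rep] at h
  haveI : IsIso (ClSub.unitToPush b) := GrothLib.ZClosure.isIso_of_basis _ fun w U hw =>
    ⟨U, hw, le_rfl, by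
      haveI := isIso_app hreg hx hd hb U
      exact ConcreteCategory.bijective_of_isIso (b.app U)⟩
  let e : (Euler.tF (rep z)).obj ((Coh.Rpush b 0).obj (Coh.structureModule X')) ≅ rep z :=
    (Euler.tF (rep z)).mapIso (((Scheme.Modules.pushforward b).rightDerivedZeroIsoSelf).app _ ≪≫
      (asIso (ClSub.unitToPush b)).symm) ≪≫ OX.tensorUnitLeftIso (rep z)
  rw [Euler.euler_of_iso k e] at h
  exact h

include hreg hd hb hover in
/-- The exceptional line: the classes of its ideal and its Euler characteristics. -/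
theorem exists_exceptional :
    ∃ hI : PicF.IsInvertible (ClSub.idealMod (_root_.BlowUp.exceptional b
        (Scheme.IdealSheafData.vanishingIdeal ⟨{x}, hx⟩))),
      ∀ (z : Pic X) (n : ℤ), chi k (pull b z * clsMod hI ^ n) =
        chi k (pull b z * clsMod hI ^ (n + 1)) + (ptDeg k x : ℤ) * (n + 1) := by
  haveI := Euler.isNoetherian_of_proper (X := X) k
  haveI := isProper_over k hx hb hover
  haveI := Euler.isNoetherian_of_proper (X := X') k
  haveI := hreg x
  set Ex := _root_.BlowUp.exceptional b (Scheme.IdealSheafData.vanishingIdeal ⟨{x}, hx⟩)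
  obtain ⟨e, he, ⟨t⟩⟩ := GrothLib.ExcP1.exists_iso_point hx hd hb
  let κ := X.residueField x
  let P := CohB1.ProjSpace 1 κ
  let j : P ⟶ X' := e.hom ≫ Ex.subschemeι
  have hker : j.ker = Ex := by
    show (e.hom ≫ Ex.subschemeι).ker = Ex
    rw [Scheme.Hom.ker_comp, Scheme.Hom.ker_eq_bot_of_isIso, Scheme.IdealSheafData.map_bot,
      Scheme.IdealSheafData.ker_subschemeι]
  have hI : PicF.IsInvertible (ClSub.idealMod Ex) := IdealModSec.isInvertible_of_isEffCartier hb.1
  have hIj : PicF.IsInvertible (ClSub.idealMod j.ker) := hker.symm ▸ hI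
  have hclj : clsMod hIj = clsMod hI := (Cube.clsMod_eq_iff _ _).2 ⟨eqToIso (by rw [hker])⟩
  refine ⟨hI, fun z n => ?_⟩
  -- the structure over the base field
  let q' : P ⟶ Spec (CommRingCat.of κ) := CohB1.ProjSpace.toSpec 1 κ
  have hjb : j ≫ b = q' ≫ X.fromSpecResidueField x := by rw [Category.assoc]; exact he
  have h2 : X.fromSpecResidueField x ≫ (X ↘ Spec (CommRingCat.of k)) =
      Spec.map (CommRingCat.ofHom (Curv2.resMap k X x)) := by
    rw [GrothLib.Ample.ProjMap.eq_toSpecΓ_toGlobal (X ↘ Spec (CommRingCat.of k)), Scheme.fromSpecResidueField,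
      Category.assoc, Scheme.fromSpecStalk_toSpecΓ_assoc, ← Spec.map_comp, ← Spec.map_comp]
    rfl
  let φ : k →+* κ := Curv2.resMap k X x
  let q : P ⟶ Spec (CommRingCat.of k) := j ≫ X' ↘ Spec (CommRingCat.of k)
  have hq : q = q' ≫ Spec.map (CommRingCat.ofHom φ) := by
    show j ≫ X' ↘ Spec (CommRingCat.of k) = _
    rw [← hover, ← Category.assoc, hjb, Category.assoc, h2]
  have hφ : ∀ a, Coh.toGlobal q a = Coh.toGlobal q' (φ a) := fun a => by
    rw [hq]
    have hn := congrArg (fun t => t.hom a) (Scheme.ΓSpecIso_inv_naturality (CommRingCat.ofHom φ))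
    simp only [CommRingCat.hom_comp, RingHom.comp_apply, CommRingCat.hom_ofHom] at hn
    simp only [Coh.toGlobal, RingHom.comp_apply, Scheme.Hom.comp_appTop, CommRingCat.hom_comp]
    exact congrArg q'.appTop.hom hn.symm
  letI overk : P.Over (Spec (CommRingCat.of k)) := ⟨q⟩
  haveI : IsClosedImmersion j := inferInstance
  haveI : IsProper (P ↘ Spec (CommRingCat.of k)) :=
    inferInstanceAs (IsProper (j ≫ X' ↘ Spec (CommRingCat.of k)))
  have hdim : topologicalKrullDim P ≤ 1 := CurveMult.P1Split.dim_le κ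
  obtain ⟨-, -, -, -, -, -, hseq⟩ := HypSq28.seq k j rfl hIj hdim (pull b z * clsMod hI ^ n)
  have hO : pull j (clsMod hI) = clsMod (CMReg.isInvertible_twist (n := 1) (k := κ) 1) := by
    rw [← Cube.clsMod_pullback j hI, Cube.clsMod_eq_iff]
    exact ⟨t⟩
  have h1 : pull (X.fromSpecResidueField x) z = 1 :=
    Cube.pic_spec_field_eq_one (F := κ) (pull (X.fromSpecResidueField x) z)
  have hpull : pull j (pull b z * clsMod hI ^ n) = clsMod (CMReg.isInvertible_twist (n := 1) (k := κ) n) := by
    rw [map_mul, map_zpow, hO, Cube.pull_comp, hjb, ← Cube.pull_comp, Contract29.cls_twist_zpow κ n]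
    erw [h1, map_one, one_mul]
  rw [hclj, mul_assoc, ← zpow_add_one, hpull, ← euler_eq_chi k (CMReg.isInvertible_twist (n := 1) (k := κ) n)] at hseq
  rw [hseq]
  congr 1
  haveI := Euler.isNoetherian_of_proper (X := P) k
  haveI := (Euler.isCoh_of_isInvertible (CMReg.isInvertible_twist (n := 1) (k := κ) n)).1
  have hfr := fun i => ArSurf29.finrank_HH_mul k q q' φ hφ (Twist.twistProjSpace 1 κ n) i
  have hk := CurveMult.P1Split.euler_O1 κ n
  rw [Euler.euler_eq_sub κ hdim] at hk
  rw [Euler.euler_eq_sub k hdim, hfr 0, hfr 1]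
  push_cast
  rw [← hk, mul_sub]
  rfl

end GrothLib.BlowPt28
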