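import Groth.Agent.Lib.BlowPt28.Canon
import Groth.Agent.Lib.HodgeIndex.Light
import Groth.Agent.Lib.HodgeIndex.Deg
import Groth.Agent.Lib.PicH1.Pic
import Groth.Agent.Lib.Kodaira.Cones

/-!
# Numerical classes on the blow-up of a point of a surface
-/

universe u

set_option autoImplicit false
set_option linter.all false
set_option backward.isDefEq.respectTransparency false
set_option maxHeartbeats 1000000

open CategoryTheory CategoryTheory.Limits AlgebraicGeometry TopologicalSpace TensorProduct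

noncomputable section

namespace GrothLib.BlowPt28

open GrothLib.Cube (Pic clsMod pull)
open GrothLib.HodgeIndex (rep isInv_rep cls_rep chi euler_eq_chi chi_one isect deg deg_eq_mixed curveIdeal)
open GrothLib.Kodaira (PLe)

variable (k : Type u) [Field k] {X : Scheme.{u}} [X.Over (Spec (CommRingCat.of k))]
  [IsProper (X ↘ Spec (CommRingCat.of k))] [IsIntegral X]
  (hdim : topologicalKrullDim X = ((2 : ℕ) : WithBot ℕ∞)) {H : X.Modules} (hH : CohB1.IsAmple H)

include hdim hH in
/-- A numerically trivial class pairs to zero with every class. -/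
theorem isect_eq_zero_of_numTrivial {L : X.Modules} (hL : PicF.IsInvertible L)
    (h : Pic13.IsNumEquivZero k X L) (z : Pic X) : isect k (clsMod hL) z = 0 := by
  have hdeg : ∀ y, Snapper.IsTop 1 y → deg k y (clsMod hL) = 0 := fun y hy => by
    haveI : IsIntegral (curveIdeal y).subscheme := Snapper.isIntegral_pt y
    have hd : topologicalKrullDim (curveIdeal y).subscheme = 1 := by
      rw [IsHomeomorph.topologicalKrullDim_eq _
        ((curveIdeal y).subschemeι.isClosedEmbedding.isEmbedding.toHomeomorph).isHomeomorph,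
        Snapper.range_pt y]
      exact hy
    rw [deg_eq_mixed k hL, show Snapper.ptMod y = (Coh.push (curveIdeal y).subschemeι).obj
      (Coh.structureModule (curveIdeal y).subscheme) from rfl, HodgeIndex.mixed_push k _ hL hd.le,
      h _ (curveIdeal y).subschemeι inferInstance hd]
    norm_num
  have heff : ∀ w : Pic X, PLe (1 : Pic X) w → isect k (clsMod hL) w = 0 := fun w hw => by
    obtain ⟨s, hs, T, m, hT, hsum⟩ := HodgeIndex.eff_decomp_pic k hdim hw
    have h0 := hsum (clsMod hL)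
    rw [Finset.sum_eq_zero fun y hy => by rw [hdeg y (hT y hy).1, mul_zero]] at h0
    exact_mod_cast h0
  obtain ⟨j₁, h₁⟩ := Kodaira.exists_pLe_pow hH z
  obtain ⟨j₂, h₂⟩ := Kodaira.exists_pLe_pow hH (1 : Pic X)
  have a := heff _ (h₂ (max j₁ j₂) (le_max_right _ _))
  have c : PLe (z * z⁻¹) (clsMod hH.1 ^ max j₁ j₂ * z⁻¹) := (h₁ (max j₁ j₂) (le_max_left _ _)).mul_right z⁻¹
  rw [mul_inv_cancel] at c
  have b := heff _ c
  rw [HodgeIndex.isect_mul_right k hdim.le, a, HodgeIndex.isect_inv_right k hdim.le] at b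
  linarith

variable [PicGrp.Law X] [Smooth (X ↘ Spec (CommRingCat.of k))]

include hdim hH in
/-- Membership in the numerically trivial classes. -/
theorem mem_subCl_iff (c : PicLoc.PicSet X) :
    c ∈ PicGrp.subCl (Pic13.IsNumEquivZero k X) ↔ ∀ z : Pic X, isect k (PicH1.picSetEquiv X c) z = 0 := by
  constructor
  · intro hc
    refine Subgroup.closure_induction (p := fun c _ => ∀ z : Pic X, isect k (PicH1.picSetEquiv X c) z = 0)
      ?_ ?_ ?_ ?_ hc
    · rintro _ ⟨L, hL, hP, rfl⟩ z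
      rw [PicH1.picSetEquiv_apply, PicH1.picSetMap_eq _ hL rfl]
      exact isect_eq_zero_of_numTrivial k hdim hH hL hP z
    · intro z
      rw [map_one]
      exact HodgeIndex.isect_one_left k hdim.le z
    · intro a b _ _ ha hb z
      rw [map_mul, HodgeIndex.isect_mul_left k hdim.le, ha, hb, add_zero]
    · intro a _ ha z
      rw [map_inv, HodgeIndex.isect_inv_left k hdim.le, ha, neg_zero]
  · intro h
    obtain ⟨L, hL, rfl⟩ := PicGrp.exists_eq_cls c
    refine PicGrp.cls_mem_subCl hL (HodgeIndex.isNumEquivZero_of_isect k hdim hH hL fun z => ?_)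
    have := h z
    rwa [PicH1.picSetEquiv_apply, PicH1.picSetMap_eq _ hL rfl] at this

section blowup

variable [IsAlgClosed k] {X' : Scheme.{u}} [X'.Over (Spec (CommRingCat.of k))]
  [IsProper (X' ↘ Spec (CommRingCat.of k))] [Smooth (X' ↘ Spec (CommRingCat.of k))] [IsIntegral X']
  (hdim' : topologicalKrullDim X' = ((2 : ℕ) : WithBot ℕ∞)) {H' : X'.Modules} (hH' : CohB1.IsAmple H')
  [PicGrp.Law X'] (hreg : ∀ y : X, IsRegularLocalRing (X.presheaf.stalk y))
  {x : X} (hx : IsClosed ({x} : Set X)) {b : X' ⟶ X}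
  (hb : _root_.BlowUp.IsBlowUp b (Scheme.IdealSheafData.vanishingIdeal ⟨{x}, hx⟩))
  (hover : b ≫ X ↘ Spec (CommRingCat.of k) = X' ↘ Spec (CommRingCat.of k))

include hdim hH hdim' hH' hreg hb hover in
/-- `N¹(X') = N¹(X) ⊕ ℤ`. -/
theorem nonempty_N1_equiv : Nonempty (NumR.N1 k X × ℤ ≃+ NumR.N1 k X') := by
  haveI := Euler.isNoetherian_of_proper (X := X) k
  have hd := dim_stalk_closed k (components_of_irreducible (by exact_mod_cast hdim)) hx
  obtain ⟨hI, -, h1, h2, h3⟩ := main k hreg hx hd hb hover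
  rw [ptDeg_eq_one k hx] at h3
  have hd' := hdim'.le
  let ε := PicH1.picSetEquiv X
  let ε' := PicH1.picSetEquiv X'
  let e : Pic X' := clsMod hI
  let mk' := QuotientGroup.mk' (PicGrp.subCl (Y := X') (Pic13.IsNumEquivZero k X'))
  have hmk : ∀ w : Pic X', mk' (ε'.symm w) = 1 ↔ ∀ z, isect k w z = 0 := fun w => by
    rw [QuotientGroup.mk'_apply, QuotientGroup.eq_one_iff, mem_subCl_iff k hdim' hH', ε'.apply_symm_apply]
  have hen : ∀ n : ℤ, isect k (e ^ n) e = -n ∧ ∀ w, isect k (e ^ n) (pull b w) = 0 := by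
    intro n
    rcases n.eq_nat_or_neg with ⟨m, rfl | rfl⟩
    · refine ⟨?_, fun w => ?_⟩
      · rw [zpow_natCast, HodgeIndex.isect_pow_left k hd', h3]; push_cast; ring
      · rw [zpow_natCast, HodgeIndex.isect_pow_left k hd', HodgeIndex.isect_comm k e, h2]; ring
    · refine ⟨?_, fun w => ?_⟩
      · rw [zpow_neg, zpow_natCast, HodgeIndex.isect_inv_left k hd', HodgeIndex.isect_pow_left k hd', h3]
        push_cast; ring
      · rw [zpow_neg, zpow_natCast, HodgeIndex.isect_inv_left k hd', HodgeIndex.isect_pow_left k hd',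
          HodgeIndex.isect_comm k e, h2]; ring
  have hperp : ∀ (z : Pic X) (n : ℤ), (∀ w, isect k (pull b z * e ^ n) w = 0) ↔
      (∀ w, isect k z w = 0) ∧ n = 0 := by
    intro z n
    constructor
    · intro h
      refine ⟨fun w => ?_, ?_⟩
      · have := h (pull b w)
        rwa [HodgeIndex.isect_mul_left k hd', h1, (hen n).2, add_zero] at this
      · have := h e
        rw [HodgeIndex.isect_mul_left k hd', h2, (hen n).1] at this
        omega
    · rintro ⟨hz, rfl⟩ w
      rw [zpow_zero, mul_one]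
      obtain ⟨q, s, rfl⟩ := exists_decomp hreg hx hd hb w
      rw [HodgeIndex.isect_mul_right k hd', h1, hz, HodgeIndex.isect_comm k (pull b z)]
      exact (zero_add _).trans ((hen s).2 z)
  let g : PicLoc.PicSet X →* PicGrp.modCl (Y := X') (Pic13.IsNumEquivZero k X') :=
    mk'.comp (ε'.symm.toMonoidHom.comp ((pull b).comp ε.toMonoidHom))
  have hg : ∀ c ∈ PicGrp.subCl (Pic13.IsNumEquivZero k X), g c = 1 := fun c hc => by
    refine (hmk _).2 ?_
    have := (hperp (ε c) 0).2 ⟨(mem_subCl_iff k hdim hH c).1 hc, rfl⟩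
    simpa using this
  let g' := QuotientGroup.lift _ g hg
  let f : NumR.N1 k X × ℤ →+ NumR.N1 k X' :=
    (MonoidHom.toAdditive g').coprod (zmultiplesHom _ (Additive.ofMul (mk' (ε'.symm e))))
  have hf : ∀ (c : PicLoc.PicSet X) (n : ℤ),
      f (Additive.ofMul (QuotientGroup.mk c), n) = Additive.ofMul (mk' (ε'.symm (pull b (ε c) * e ^ n))) :=
    fun c n => by
      rw [map_mul, map_zpow, map_mul, map_zpow]
      rfl
  refine ⟨AddEquiv.ofBijective f ⟨(injective_iff_map_eq_zero f).2 ?_, ?_⟩⟩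
  · rintro ⟨a, n⟩ h
    obtain ⟨c, hc⟩ := QuotientGroup.mk_surjective (Additive.toMul a)
    have ha : a = Additive.ofMul (QuotientGroup.mk c) := hc.symm
    rw [ha, hf] at h
    obtain ⟨hz, rfl⟩ := (hperp _ n).1 ((hmk _).1 h)
    rw [ha, (QuotientGroup.eq_one_iff c).2 ((mem_subCl_iff k hdim hH c).2 hz)]
    rfl
  · intro a
    obtain ⟨c, hc⟩ := QuotientGroup.mk_surjective (Additive.toMul a)
    obtain ⟨z, s, hzs⟩ := exists_decomp hreg hx hd hb (ε' c)
    refine ⟨(Additive.ofMul (QuotientGroup.mk (ε.symm z)), s), ?_⟩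
    rw [hf, ε.apply_symm_apply, show pull b z * e ^ s = ε' c from hzs.symm, ε'.symm_apply_apply]
    exact hc

include hdim hH hdim' hH' hreg hb hover in
/-- The Picard number goes up by one. -/
theorem finrank_N1R [Module.Finite ℝ (NumR.N1R k X)] :
    Module.Finite ℝ (NumR.N1R k X') ∧
      Module.finrank ℝ (NumR.N1R k X') = Module.finrank ℝ (NumR.N1R k X) + 1 := by
  obtain ⟨φ⟩ := nonempty_N1_equiv k hdim hH hdim' hH' hreg hx hb hover
  let Φ : (NumR.N1R k X × ℝ) ≃ₗ[ℝ] NumR.N1R k X' :=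
    (show (ℝ ⊗[ℤ] NumR.N1 k X × ℝ) ≃ₗ[ℝ] ℝ ⊗[ℤ] NumR.N1 k X' from
      (LinearEquiv.prodCongr (LinearEquiv.refl ℝ _) (TensorProduct.AlgebraTensorModule.rid ℤ ℝ ℝ).symm) ≪≫ₗ
        (TensorProduct.prodRight ℤ ℝ ℝ (NumR.N1 k X) ℤ).symm ≪≫ₗ
        TensorProduct.AlgebraTensorModule.congr (LinearEquiv.refl ℝ ℝ) φ.toIntLinearEquiv)
  haveI := Module.Finite.equiv Φ
  refine ⟨inferInstance, ?_⟩
  rw [← Φ.finrank_eq, Module.finrank_prod, Module.finrank_self]

end blowup

end GrothLib.BlowPt28
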