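import Groth.Agent.Lib.BlowPt28.Euler
import Groth.Agent.Lib.BCCoh.RpushAffine
import Groth.Agent.Lib.RatSing29.AcyclicPush

/-!
# Cohomology of pull-backs to the blow-up of a point of a regular surface
-/

universe u

set_option autoImplicit false
set_option linter.all false
set_option backward.isDefEq.respectTransparency false
set_option maxHeartbeats 1000000

open CategoryTheory CategoryTheory.Limits AlgebraicGeometry TopologicalSpace Abelian
open GrothLib.Cohom

noncomputable section

namespace GrothLib.BlowPt28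

open GrothLib.Cube (Pic clsMod pull)
open GrothLib.HodgeIndex (rep isInv_rep cls_rep chi euler_eq_chi chi_one isect)

/-- Vanishing on an open subscheme gives vanishing on the open. -/
theorem subsingleton_ext_restrict {X : Scheme.{u}} (G : X.Modules) (U : X.Opens) (p : ℕ)
    (h : Subsingleton (Coh.HH (U : Scheme.{u}) (G.restrict U.ι) p)) :
    Subsingleton (Ext.{u} (freeFun.obj U) (Coh.toAb G) p) := by
  have hj := Scheme.Hom.isOpenEmbedding U.ι
  obtain ⟨c⟩ := nonempty_comparison_restrFun hj (⊤ : (U : Scheme.{u}).Opens) p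
  have e := c.equiv (Coh.toAb G) trivial
  have hU : hj.isOpenMap.functor.obj (⊤ : (U : Scheme.{u}).Opens) = U := U.ι_image_top
  rw [hU] at e
  have h' : Subsingleton (Ext.{u} (freeFun.obj (⊤ : (U : Scheme.{u}).Opens)) (Coh.toAb (G.restrict U.ι)) p) :=
    (HEquivTop (Coh.toAb (G.restrict U.ι)) p).symm.toEquiv.subsingleton
  exact @Equiv.subsingleton _ _ e.toEquiv h'

variable (k : Type u) [Field k] {X X' : Scheme.{u}} [X.Over (Spec (CommRingCat.of k))]
  [X'.Over (Spec (CommRingCat.of k))] [IsProper (X ↘ Spec (CommRingCat.of k))]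
  (hreg : ∀ y : X, IsRegularLocalRing (X.presheaf.stalk y))
  {x : X} (hx : IsClosed ({x} : Set X)) (hd : ringKrullDim (X.presheaf.stalk x) = 2) {b : X' ⟶ X}
  (hb : _root_.BlowUp.IsBlowUp b (Scheme.IdealSheafData.vanishingIdeal ⟨{x}, hx⟩))
  (hover : b ≫ X ↘ Spec (CommRingCat.of k) = X' ↘ Spec (CommRingCat.of k))

include hreg hd hb hover in
/-- Pull-back keeps cohomology. -/
theorem hh_pull (z : Pic X) (i : ℕ) :
    Module.finrank k (Coh.HH X' (rep (pull b z)) i) = Module.finrank k (Coh.HH X (rep z) i) := by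
  haveI := isProper_over k hx hb hover
  haveI := Euler.isNoetherian_of_proper (X := X) k
  haveI := Euler.isNoetherian_of_proper (X := X') k
  letI := RpushSupp20.hasInjectiveResolutions X'
  have hN := isInv_rep z
  haveI : IsProper b := GrothLib.BlowUpProper.isProper_of_isBlowUp hb
  let O := Coh.structureModule X'
  let G := (Scheme.Modules.pullback b).obj (rep z)
  have hbN := Ample.isInvertible_pullback b hN
  have eG : CohB1.tensorMod G O ≅ G := Euler.tFUnitIso _
  haveI : G.IsQuasicoherent := Euler.isQuasicoherent_of_isFinLocFree (Euler.isFinLocFree_of_isInvertible hbN)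
  have hz : ∀ p, 1 ≤ p → IsZero ((Coh.Rpush b p).obj G) := fun p hp => by
    obtain ⟨e⟩ := Groth.Agent.S0927.result b O (rep z) (Euler.isFinLocFree_of_isInvertible hN) p
    exact ((Euler.tF (rep z)).map_isZero (isZero_Rpush_module hreg hx hd hb p hp)).of_iso
      (((Coh.Rpush b p).mapIso eG).symm ≪≫ e.symm ≪≫ (((OX.tensorBraiding (X := X)).app (rep z)).app _).symm)
  have hac : Cohom.AcyclicOn b.base X.affineOpens (Coh.toAb G) := fun W hW n => by
    refine subsingleton_ext_restrict G (b ⁻¹ᵁ W) (n + 1) ?_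
    obtain ⟨e, -⟩ := BCCoh.exists_Rpush_equiv (f := b) (V := W) (hV := hW) (M := G) (n + 1)
    refine @Equiv.subsingleton _ _ e.toEquiv ?_
    refine subsingleton_of_forall_eq 0 fun t => ?_
    have h := (IsZero.iff_id_eq_zero _).1 (hz (n + 1) (by omega))
    simpa using ConcreteCategory.congr_hom (congrArg (fun φ : _ ⟶ _ => Scheme.Modules.Hom.app φ W) h) t
  obtain ⟨e1⟩ := RatSing29.nonempty_push_linearEquiv b hover.symm G hac i
  haveI : IsIso (ClSub.unitToPush b) := GrothLib.ZClosure.isIso_of_basis _ fun w U hw =>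
    ⟨U, hw, le_rfl, by
      haveI := isIso_app hreg hx hd hb U
      exact ConcreteCategory.bijective_of_isIso (b.app U)⟩
  obtain ⟨e0⟩ := Groth.Agent.S0927.result b O (rep z) (Euler.isFinLocFree_of_isInvertible hN) 0
  let e : (Scheme.Modules.pushforward b).obj G ≅ rep z :=
    ((Scheme.Modules.pushforward b).rightDerivedZeroIsoSelf.app G).symm ≪≫ ((Coh.Rpush b 0).mapIso eG).symm ≪≫
      e0.symm ≪≫ (((OX.tensorBraiding (X := X)).app (rep z)).app _).symm ≪≫
      (Euler.tF (rep z)).mapIso (((Scheme.Modules.pushforward b).rightDerivedZeroIsoSelf).app _ ≪≫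
      (asIso (ClSub.unitToPush b)).symm) ≪≫ OX.tensorUnitLeftIso (rep z)
  obtain ⟨w⟩ := (Cube.clsMod_eq_iff hbN (isInv_rep _)).1
    ((Cube.clsMod_pullback b hN).trans ((congrArg (pull b) (cls_rep z)).trans (cls_rep _).symm))
  rw [← (Euler.hhEquiv (A := k) w i).finrank_eq, e1.finrank_eq, (Euler.hhEquiv (A := k) e i).finrank_eq]

end GrothLib.BlowPt28
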