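import Groth.Agent.Lib.BlowPt28.Euler
import Groth.Agent.Lib.HodgeIndex.Real
import Groth.Agent.Lib.FGAInt26.Basic
import Groth.Agent.Lib.RatSing29.ModifDim
import Groth.Agent.Lib.CodimExt27.Basic

/-!
# Intersection numbers on the blow-up of a point of a regular surface
-/

universe u

set_option autoImplicit false
set_option linter.all false
set_option backward.isDefEq.respectTransparency false
set_option maxHeartbeats 1000000

open CategoryTheory CategoryTheory.Limits AlgebraicGeometry TopologicalSpace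

noncomputable section

namespace GrothLib.BlowPt28

open GrothLib.Cube (Pic clsMod pull)
open GrothLib.HodgeIndex (rep isInv_rep cls_rep chi euler_eq_chi chi_one isect)

variable (k : Type u) [Field k]

/-- The pairing of the statements is `isect` on a proper scheme of dimension at most two. -/
theorem intNum_eq {X : Scheme.{u}} [X.Over (Spec (CommRingCat.of k))] [IsProper (X ↘ Spec (CommRingCat.of k))]
    (hdim : topologicalKrullDim X ≤ ((2 : ℕ) : WithBot ℕ∞)) {L M : X.Modules} (hL : PicF.IsInvertible L)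
    (hM : PicF.IsInvertible M) :
    FGA.intNum k X 2 ![L, M] (Coh.structureModule X) = isect k (clsMod hL) (clsMod hM) := by
  have hO := Euler.isInvertible_structure (X := X)
  have hO1 : clsMod hO = 1 := (Cube.clsMod_eq_one_iff hO).2 ⟨Iso.refl _⟩
  have hle : ∀ (E : X.Modules) (hE : PicF.IsInvertible E), FGA.eulerCharLE k X E 2 = chi k (clsMod hE) :=
    fun E hE => (FGAInt26.eulerCharLE_eq k hdim E).trans (euler_eq_chi k hE)
  have i1 := Ample.isInvertible_tensorMod hO hO
  have iL := Ample.isInvertible_tensorMod hL hO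
  have iM := Ample.isInvertible_tensorMod hM hO
  have iLM := Ample.isInvertible_tensorMod hL iM
  rw [HodgeIndex.intNum_two, hle _ i1, hle _ (Ample.isInvertible_tensorMod iL hO),
    hle _ (Ample.isInvertible_tensorMod iM hO), hle _ (Ample.isInvertible_tensorMod iLM hO)]
  simp only [Cube.clsMod_tensorMod hO hO, Cube.clsMod_tensorMod iL hO, Cube.clsMod_tensorMod iM hO,
    Cube.clsMod_tensorMod iLM hO, Cube.clsMod_tensorMod hL hO, Cube.clsMod_tensorMod hM hO,
    Cube.clsMod_tensorMod hL iM, hO1, mul_one, isect]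

/-- Closed points of a surface have two-dimensional local rings. -/
theorem dim_stalk_closed {X : Scheme.{u}} [X.Over (Spec (CommRingCat.of k))]
    [LocallyOfFiniteType (X ↘ Spec (CommRingCat.of k))]
    (hdim : ∀ Z ∈ irreducibleComponents (X : Type u), topologicalKrullDim Z = ((2 : ℕ) : WithBot ℕ∞))
    {x : X} (hx : IsClosed ({x} : Set X)) : ringKrullDim (X.presheaf.stalk x) = 2 := by
  have h := CodimExt27.ptDim_add_dim_stalk (X ↘ Spec (CommRingCat.of k)) hdim x
  rwa [AffDom.ptDim_closedPoint hx, zero_add] at h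

/-- An irreducible surface has one component. -/
theorem components_of_irreducible {X : Scheme.{u}} [IrreducibleSpace X] (hdim : topologicalKrullDim X = 2) :
    ∀ Z ∈ irreducibleComponents (X : Type u), topologicalKrullDim Z = ((2 : ℕ) : WithBot ℕ∞) := by
  intro Z hZ
  rw [irreducibleComponents_eq_singleton, Set.mem_singleton_iff] at hZ
  subst hZ
  rw [IsHomeomorph.topologicalKrullDim_eq _ (Homeomorph.Set.univ X).isHomeomorph, hdim]
  rfl

variable {X X' : Scheme.{u}} (hreg : ∀ y : X, IsRegularLocalRing (X.presheaf.stalk y))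
  {x : X} (hx : IsClosed ({x} : Set X)) (hd : ringKrullDim (X.presheaf.stalk x) = 2) {b : X' ⟶ X}
  (hb : _root_.BlowUp.IsBlowUp b (Scheme.IdealSheafData.vanishingIdeal ⟨{x}, hx⟩))

include hreg hd hb in
/-- The blow-up has dimension at most two. -/
theorem dim_le_two [IsNoetherian X] (hdim : topologicalKrullDim X ≤ ((2 : ℕ) : WithBot ℕ∞)) :
    topologicalKrullDim X' ≤ ((2 : ℕ) : WithBot ℕ∞) := by
  haveI : IsProper b := GrothLib.BlowUpProper.isProper_of_isBlowUp hb
  haveI := hreg x
  haveI : IsDomain (X.presheaf.stalk x) := GrothLib.CMFree.isDomain_of_isRegularLocalRing _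
  obtain ⟨W₀, hxW, hW⟩ := GrothLib.Rat20Ext.exists_integral_nhd (X := X) x
  haveI := hW
  set J := Scheme.IdealSheafData.vanishingIdeal (⟨{x}, hx⟩ : Closeds X) with hJ
  have hJs : ∀ w : X, w ∈ (J.support : Set X) ↔ w = x := fun w => by
    rw [Scheme.IdealSheafData.coe_support_vanishingIdeal]; rfl
  rw [GrothLib.AlgSp.topologicalKrullDim_eq_iSup_stalk]
  refine iSup_le fun w => ?_
  by_cases hw : b w ∈ W₀
  · set J₀ := J.comap W₀.ι
    have hgen : genericPoint (W₀ : Scheme.{u}) ∉ (J₀.support : Set (W₀ : Scheme.{u})) := by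
      rw [Scheme.IdealSheafData.support_comap]
      intro h
      have h1 : W₀.ι (genericPoint (W₀ : Scheme.{u})) = x := (hJs _).1 h
      have h2 : (⟨x, hxW⟩ : (W₀ : Scheme.{u})) = genericPoint (W₀ : Scheme.{u}) := Subtype.ext h1.symm
      have h3 := ringKrullDim_eq_of_ringEquiv (asIso (W₀.ι.stalkMap ⟨x, hxW⟩)).commRingCatIsoToRingEquiv
      have h4 : ringKrullDim ((W₀ : Scheme.{u}).presheaf.stalk ⟨x, hxW⟩) = 0 := by
        rw [h2]; exact ringKrullDim_eq_zero_of_field (W₀ : Scheme.{u}).functionField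
      have h5 : ringKrullDim (X.presheaf.stalk x) = 0 := h3.trans h4
      rw [hd] at h5
      norm_num at h5
    have hJ0 : J₀ ≠ ⊥ := fun h => hgen (by rw [h, Scheme.IdealSheafData.support_bot]; trivial)
    have hb₀ : _root_.BlowUp.IsBlowUp (b ∣_ W₀) J₀ := GrothLib.Nagata6.isBlowUp_restrict hb W₀
    haveI : IsIntegral ((b ⁻¹ᵁ W₀ : X'.Opens) : Scheme.{u}) := (Groth.Agent.S2348.result _ hJ0 _ hb₀).choose
    haveI : IsNoetherian (W₀ : Scheme.{u}) :=
      { toIsLocallyNoetherian := isLocallyNoetherian_of_isOpenImmersion W₀.ι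
        toCompactSpace := isCompact_iff_compactSpace.1 (NoetherianSpace.isCompact _) }
    have hW0 : topologicalKrullDim (W₀ : Scheme.{u}) ≤ ((2 : ℕ) : WithBot ℕ∞) :=
      (W₀.ι.isOpenEmbedding.toIsInducing.topologicalKrullDim_le).trans hdim
    have h := GrothLib.RatSing29.dim_le_of_birational (b ∣_ W₀) J₀.support.compl ⟨_, hgen⟩
      (GrothLib.BlowUp.isIso_off_center hb₀) hW0
    refine le_trans (le_of_eq ?_) ((GrothLib.Ref1.ringKrullDim_stalk_le_topologicalKrullDim
      (⟨w, hw⟩ : ((b ⁻¹ᵁ W₀ : X'.Opens) : Scheme.{u}))).trans h)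
    exact ringKrullDim_eq_of_ringEquiv
      (asIso ((b ⁻¹ᵁ W₀).ι.stalkMap ⟨w, hw⟩)).commRingCatIsoToRingEquiv
  · have hne : b w ≠ x := fun h => hw (h ▸ hxW)
    haveI := GrothLib.ExcP1.isIso_stalkMap_off hx hb hne
    refine le_trans (le_of_eq ?_) ((GrothLib.Ref1.ringKrullDim_stalk_le_topologicalKrullDim (b w)).trans hdim)
    exact (ringKrullDim_eq_of_ringEquiv (asIso (b.stalkMap w)).commRingCatIsoToRingEquiv).symm

variable [X.Over (Spec (CommRingCat.of k))] [X'.Over (Spec (CommRingCat.of k))]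
  [IsProper (X ↘ Spec (CommRingCat.of k))]
  (hover : b ≫ X ↘ Spec (CommRingCat.of k) = X' ↘ Spec (CommRingCat.of k))

/-- The class of the ideal of the exceptional divisor. -/
def exc (hI : PicF.IsInvertible (ClSub.idealMod (_root_.BlowUp.exceptional b
    (Scheme.IdealSheafData.vanishingIdeal ⟨{x}, hx⟩)))) : Pic X' := clsMod hI

include hreg hd hb hover in
/-- Euler characteristics of twists by the exceptional divisor. -/
theorem main :
    ∃ hI : PicF.IsInvertible (ClSub.idealMod (_root_.BlowUp.exceptional b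
        (Scheme.IdealSheafData.vanishingIdeal ⟨{x}, hx⟩))),
      (∀ (z : Pic X) (n : ℤ), 2 * chi k (pull b z * clsMod hI ^ n) = 2 * chi k z - (ptDeg k x : ℤ) * (n * (n + 1))) ∧
      (∀ z w : Pic X, isect k (pull b z) (pull b w) = isect k z w) ∧
      (∀ z : Pic X, isect k (pull b z) (clsMod hI) = 0) ∧
      isect k (clsMod hI) (clsMod hI) = -(ptDeg k x : ℤ) := by
  obtain ⟨hI, hstep⟩ := exists_exceptional k hreg hx hd hb hover
  have hpull := fun z : Pic X => chi_pull k hreg hx hd hb hover z
  have key : ∀ (z : Pic X) (n : ℤ),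
      2 * chi k (pull b z * clsMod hI ^ n) = 2 * chi k z - (ptDeg k x : ℤ) * (n * (n + 1)) := by
    intro z n
    induction n using Int.induction_on with
    | zero => rw [zpow_zero, mul_one, hpull]; ring
    | succ m ih => linarith [hstep z m, ih, show (ptDeg k x : ℤ) * (((m : ℤ) + 1) * ((m : ℤ) + 1 + 1)) =
        (ptDeg k x : ℤ) * ((m : ℤ) * ((m : ℤ) + 1)) + 2 * ((ptDeg k x : ℤ) * ((m : ℤ) + 1)) by ring]
    | pred m ih =>
      have h := hstep z (-(m : ℤ) - 1)
      rw [sub_add_cancel] at h
      linarith [show (ptDeg k x : ℤ) * ((-(m : ℤ) - 1) * (-(m : ℤ) - 1 + 1)) =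
        (ptDeg k x : ℤ) * (-(m : ℤ) * (-(m : ℤ) + 1)) - 2 * ((ptDeg k x : ℤ) * (-(m : ℤ))) by ring]
  refine ⟨hI, key, fun z w => ?_, fun z => ?_, ?_⟩
  · simp only [isect, ← map_mul]
    rw [hpull, hpull, hpull, ← map_one (pull b), hpull]
  · have h1 := key z 1
    have h2 := key 1 1
    rw [zpow_one, map_one, one_mul] at h2
    rw [zpow_one] at h1
    simp only [isect]
    rw [hpull, ← map_one (pull b), hpull]
    linarith
  · have h1 := key 1 1
    have h2 := key 1 2
    rw [zpow_one, map_one, one_mul] at h1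
    rw [map_one, one_mul, zpow_two] at h2
    simp only [isect]
    rw [← map_one (pull b), hpull]
    linarith

end GrothLib.BlowPt28
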