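import Groth.Agent.Lib.BlowPt28.PlaneLine
import Groth.Agent.Lib.BlowPt28.Pull
import Groth.Agent.Lib.BlowPt28.SeqLe
import Groth.Agent.Lib.BlowPt28.Surface
import Groth.Agent.Lib.CurveProd28.Basic
import Groth.Agent.Lib.Contract29.GenusZeroMin
import Groth.Agent.Lib.Contract29.PicBlowUp
import Groth.Agent.Lib.GVanish.Main

/-!
# Cohomology of line bundles on the blow-up of a point of the plane
-/

universe u

set_option autoImplicit false
set_option linter.all false
set_option backward.isDefEq.respectTransparency false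
set_option maxHeartbeats 2000000

open CategoryTheory CategoryTheory.Limits AlgebraicGeometry TopologicalSpace

noncomputable section

namespace GrothLib.BlowPt28

open GrothLib.Cube (Pic clsMod pull)
open GrothLib.HodgeIndex (rep isInv_rep cls_rep chi euler_eq_chi chi_one isect)

variable (k : Type u) [Field k]

/-- The class of a twist of projective space. -/
abbrev tw (n : ℕ) (p : ℤ) : Pic (CohB1.ProjSpace n k) := clsMod (CMReg.isInvertible_twist (n := n) (k := k) p)

theorem tw_add (n : ℕ) (s t : ℤ) : tw k n s * tw k n t = tw k n (s + t) := by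
  rw [tw, tw, tw, ← Cube.clsMod_tensorMod]
  exact (Cube.clsMod_eq_iff _ _).2 (CMReg.nonempty_twist_add (n := n) (k := k) rfl)

theorem tw_zero (n : ℕ) : tw k n 0 = 1 := (Cube.clsMod_eq_one_iff _).2 (CMReg.nonempty_twist_zero (n := n) (k := k))

theorem tw_eq_zpow (n : ℕ) (p : ℤ) : tw k n p = tw k n 1 ^ p := by
  induction p using Int.induction_on with
  | zero => rw [zpow_zero, tw_zero]
  | succ m ih => rw [zpow_add_one, ← ih, tw_add]
  | pred m ih =>
    rw [zpow_sub_one, ← ih, eq_mul_inv_iff_mul_eq, tw_add]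
    congr 1
    ring

/-- The canonical structure of a projective space over the field. -/
local instance projOver (n : ℕ) : (CohB1.ProjSpace n k).Over (Spec (CommRingCat.of k)) := ⟨CohB1.ProjSpace.toSpec n k⟩

local instance isProper_projOver (n : ℕ) : IsProper (CohB1.ProjSpace n k ↘ Spec (CommRingCat.of k)) :=
  Chow.isProper_toSpec n k

theorem finrank_rep_tw (n : ℕ) (p : ℤ) (i : ℕ) : Module.finrank k (Coh.HH (CohB1.ProjSpace n k) (rep (tw k n p)) i) =
    Module.finrank k (Coh.HH (CohB1.ProjSpace n k) (Twist.twistProjSpace n k p) i) := by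
  obtain ⟨e⟩ := (Cube.clsMod_eq_iff (CMReg.isInvertible_twist (n := n) (k := k) p) (isInv_rep _)).1 (cls_rep (tw k n p)).symm
  exact (Euler.hhEquiv (A := k) e i).finrank_eq.symm

/-- Cohomology of the twists of the plane. -/
theorem plane (p : ℤ) :
    Module.finrank k (Coh.HH (CohB1.ProjSpace 2 k) (rep (tw k 2 p)) 0) = (p + 2).toNat.choose 2 ∧
      Module.finrank k (Coh.HH (CohB1.ProjSpace 2 k) (rep (tw k 2 p)) 1) = 0 ∧
      Module.finrank k (Coh.HH (CohB1.ProjSpace 2 k) (rep (tw k 2 p)) 2) = (-p - 1).toNat.choose 2 := by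
  rw [finrank_rep_tw, finrank_rep_tw, finrank_rep_tw]
  set h := fun i => Module.finrank k (Coh.HH (CohB1.ProjSpace 2 k) (Twist.twistProjSpace 2 k p) i)
  have hz : ∀ q, ¬ (q = 0 ∧ 0 ≤ p) → ¬ (q = 2 ∧ p ≤ -3) → h q = 0 := fun q a b => by
    haveI := ProjCohom.subsingleton_HH (n := 2) (R := k) (d := p) (q := q) a (fun c => b ⟨c.1, by have := c.2; omega⟩)
    exact Module.finrank_zero_of_subsingleton
  have hχ := euler_plane k p
  rw [Euler.euler_eq_sum k _ (N := 3) fun m hm => ProjCohom.subsingleton_HH (fun c => by omega) (fun c => by omega),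
    Finset.sum_range_succ, Finset.sum_range_succ, Finset.sum_range_one] at hχ
  have h1 : h 1 = 0 := hz 1 (fun c => by omega) (fun c => by omega)
  change 2 * ((-1 : ℤ) ^ 0 * (h 0 : ℤ) + (-1 : ℤ) ^ 1 * (h 1 : ℤ) + (-1 : ℤ) ^ 2 * (h 2 : ℤ)) = _ at hχ
  rw [h1] at hχ
  norm_num at hχ
  have hc : ∀ m : ℕ, 2 * (m.choose 2 : ℤ) = (m : ℤ) * ((m : ℤ) - 1) := fun m => by
    rw [Nat.choose_two_right]
    rcases m with _ | m
    · simp
    · have hdvd : 2 ∣ (m + 1) * (m + 1 - 1) := by
        rw [Nat.add_sub_cancel, mul_comm]; exact (Nat.even_mul_succ_self m).two_dvd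
      obtain ⟨c, hc⟩ := hdvd
      rw [hc, Nat.mul_div_cancel_left _ two_pos]
      rw [Nat.add_sub_cancel] at hc
      have hc' : ((m : ℤ) + 1) * (m : ℤ) = 2 * (c : ℤ) := by exact_mod_cast hc
      push_cast
      linarith
  refine ⟨?_, h1, ?_⟩
  · show h 0 = _
    rcases le_or_gt 0 p with hp | hp
    · have h2 : h 2 = 0 := hz 2 (fun c => by omega) (fun c => by omega)
      have := hc (p + 2).toNat
      rw [Int.toNat_of_nonneg (by omega)] at this
      rw [h2] at hχ
      push_cast at hχ
      have : (h 0 : ℤ) = ((p + 2).toNat.choose 2 : ℤ) := by linarith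
      exact_mod_cast this
    · rw [hz 0 (fun c => by omega) (fun c => by omega), Nat.choose_eq_zero_of_lt (by omega)]
  · show h 2 = _
    rcases le_or_gt p (-3) with hp | hp
    · have h0 : h 0 = 0 := hz 0 (fun c => by omega) (fun c => by omega)
      have := hc (-p - 1).toNat
      rw [Int.toNat_of_nonneg (by omega)] at this
      rw [h0] at hχ
      push_cast at hχ
      have : (h 2 : ℤ) = ((-p - 1).toNat.choose 2 : ℤ) := by linarith
      exact_mod_cast this
    · rw [hz 2 (fun c => by omega) (fun c => by omega), Nat.choose_eq_zero_of_lt (by omega)]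

variable [IsAlgClosed k] {x : CohB1.ProjSpace 2 k} (hx : IsClosed ({x} : Set (CohB1.ProjSpace 2 k)))
  {X' : Scheme.{u}} [X'.Over (Spec (CommRingCat.of k))] {b : X' ⟶ CohB1.ProjSpace 2 k}
  (hb : _root_.BlowUp.IsBlowUp b (Scheme.IdealSheafData.vanishingIdeal ⟨{x}, hx⟩))
  (hover : b ≫ CohB1.ProjSpace.toSpec 2 k = X' ↘ Spec (CommRingCat.of k))

/-- The class of the exceptional ideal. -/
def ecls : Pic X' := clsMod (IdealModSec.isInvertible_of_isEffCartier hb.1)

/-- `π^*O(p)` twisted by the `n`-th power of the exceptional ideal. -/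
def M (p n : ℤ) : Pic X' := pull b (tw k 2 p) * ecls k hx hb ^ n

/-- The dimensions of the cohomology of `M p n`. -/
def H (p n : ℤ) (i : ℕ) : ℕ := Module.finrank k (Coh.HH X' (rep (M k hx hb p n)) i)

theorem regular_plane : ∀ y : CohB1.ProjSpace 2 k, IsRegularLocalRing ((CohB1.ProjSpace 2 k).presheaf.stalk y) := by
  haveI : Smooth (CohB1.ProjSpace 2 k ↘ Spec (CommRingCat.of k)) := GrothLib.CurveMult.smooth_toSpec 2 k
  exact HodgeIndex.regular_of_smooth k

theorem dim_plane : topologicalKrullDim (CohB1.ProjSpace 2 k) = ((2 : ℕ) : WithBot ℕ∞) := by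
  exact_mod_cast Groth.Agent.S10829.result k 2

include hx in
theorem dim_stalk_plane : ringKrullDim ((CohB1.ProjSpace 2 k).presheaf.stalk x) = 2 := by
  haveI : IsIntegral (CohB1.ProjSpace 2 k) := ProjDim.isIntegral_proj k 2
  exact dim_stalk_closed k (components_of_irreducible (by exact_mod_cast dim_plane k)) hx

include hover in
/-- Euler characteristics. -/
theorem chi_M (p n : ℤ) : 2 * chi k (M k hx hb p n) = (p + 1) * (p + 2) - n * (n + 1) := by
  haveI := isProper_over k hx hb hover
  obtain ⟨hI, key, -, -, -⟩ := main k (regular_plane k) hx (dim_stalk_plane k hx) hb hover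
  show 2 * chi k (pull b (tw k 2 p) * clsMod hI ^ n) = _
  rw [key, ptDeg_eq_one k hx, ← euler_eq_chi k, euler_plane]
  push_cast
  ring

include hover in
theorem chi_sum (p n : ℤ) : chi k (M k hx hb p n) = (H k hx hb p n 0 : ℤ) - H k hx hb p n 1 + H k hx hb p n 2 := by
  haveI := isProper_over k hx hb hover
  haveI := Euler.isNoetherian_of_proper (X := CohB1.ProjSpace 2 k) k
  haveI := Euler.isNoetherian_of_proper (X := X') k
  haveI : NoetherianSpace X'.toTopCat := (inferInstance : NoetherianSpace X')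
  have hd := dim_le_two (regular_plane k) hx (dim_stalk_plane k hx) hb (dim_plane k).le
  show Curv2.euler k X' _ = _
  rw [Euler.euler_eq_sum k _ (N := 3) fun i hi =>
    GVanish.subsingleton_H_of_krullDim_le (X := X'.toTopCat) 2 hd _ i (by omega),
    Finset.sum_range_succ, Finset.sum_range_succ, Finset.sum_range_one]
  simp only [H]
  push_cast
  ring

include hover in
/-- The values without exceptional twist. -/
theorem H_zero (p : ℤ) :
    H k hx hb p 0 0 = (p + 2).toNat.choose 2 ∧ H k hx hb p 0 1 = 0 ∧ H k hx hb p 0 2 = (-p - 1).toNat.choose 2 := by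
  have h0 : M k hx hb p 0 = pull b (tw k 2 p) := by unfold M; rw [zpow_zero]; exact mul_one _
  unfold H
  rw [h0, hh_pull k (regular_plane k) hx (dim_stalk_plane k hx) hb hover,
    hh_pull k (regular_plane k) hx (dim_stalk_plane k hx) hb hover,
    hh_pull k (regular_plane k) hx (dim_stalk_plane k hx) hb hover]
  exact plane k p

include hover in
/-- The restriction to the exceptional line. -/
theorem exc_step (p n : ℤ) :
    H k hx hb p (n + 1) 0 ≤ H k hx hb p n 0 ∧ H k hx hb p n 0 ≤ H k hx hb p (n + 1) 0 + (n + 1).toNat ∧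
      H k hx hb p (n + 1) 1 ≤ (n + 1).toNat + H k hx hb p n 1 ∧
      (-1 ≤ n → H k hx hb p n 1 ≤ H k hx hb p (n + 1) 1) ∧
      H k hx hb p n 2 ≤ H k hx hb p (n + 1) 2 ∧ (-1 ≤ n → H k hx hb p (n + 1) 2 = H k hx hb p n 2) := by
  haveI := isProper_over k hx hb hover
  haveI := Euler.isNoetherian_of_proper (X := CohB1.ProjSpace 2 k) k
  haveI := Euler.isNoetherian_of_proper (X := X') k
  have hd := dim_stalk_plane k hx
  haveI := regular_plane k x
  set Ex := _root_.BlowUp.exceptional b (Scheme.IdealSheafData.vanishingIdeal ⟨{x}, hx⟩)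
  obtain ⟨e, he, ⟨t⟩⟩ := GrothLib.ExcP1.exists_iso_point hx hd hb
  let κ := (CohB1.ProjSpace 2 k).residueField x
  let P := CohB1.ProjSpace 1 κ
  let j : P ⟶ X' := e.hom ≫ Ex.subschemeι
  have hker : j.ker = Ex := by
    show (e.hom ≫ Ex.subschemeι).ker = Ex
    rw [Scheme.Hom.ker_comp, Scheme.Hom.ker_eq_bot_of_isIso, Scheme.IdealSheafData.map_bot,
      Scheme.IdealSheafData.ker_subschemeι]
  have hI : PicF.IsInvertible (ClSub.idealMod Ex) := IdealModSec.isInvertible_of_isEffCartier hb.1
  have hIj : PicF.IsInvertible (ClSub.idealMod j.ker) := hker.symm ▸ hI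
  have hclj : clsMod hIj = ecls k hx hb := (Cube.clsMod_eq_iff _ _).2 ⟨eqToIso (by rw [hker])⟩
  let q' : P ⟶ Spec (CommRingCat.of κ) := CohB1.ProjSpace.toSpec 1 κ
  have hjb : j ≫ b = q' ≫ (CohB1.ProjSpace 2 k).fromSpecResidueField x := by rw [Category.assoc]; exact he
  let φ : k →+* κ := Curv2.resMap k (CohB1.ProjSpace 2 k) x
  have h2 : (CohB1.ProjSpace 2 k).fromSpecResidueField x ≫ CohB1.ProjSpace.toSpec 2 k =
      Spec.map (CommRingCat.ofHom φ) := by
    show _ ≫ ((CohB1.ProjSpace 2 k) ↘ Spec (CommRingCat.of k)) = _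
    rw [GrothLib.Ample.ProjMap.eq_toSpecΓ_toGlobal ((CohB1.ProjSpace 2 k) ↘ Spec (CommRingCat.of k)),
      Scheme.fromSpecResidueField, Category.assoc, Scheme.fromSpecStalk_toSpecΓ_assoc, ← Spec.map_comp,
      ← Spec.map_comp]
    rfl
  let q : P ⟶ Spec (CommRingCat.of k) := j ≫ X' ↘ Spec (CommRingCat.of k)
  have hq : q = q' ≫ Spec.map (CommRingCat.ofHom φ) := by
    show j ≫ X' ↘ Spec (CommRingCat.of k) = _
    rw [← hover, ← Category.assoc, hjb, Category.assoc, h2]
  have hφ : ∀ a, Coh.toGlobal q a = Coh.toGlobal q' (φ a) := fun a => by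
    rw [hq]
    have hn := congrArg (fun t => t.hom a) (Scheme.ΓSpecIso_inv_naturality (CommRingCat.ofHom φ))
    simp only [CommRingCat.hom_comp, RingHom.comp_apply, CommRingCat.hom_ofHom] at hn
    simp only [Coh.toGlobal, RingHom.comp_apply, Scheme.Hom.comp_appTop, CommRingCat.hom_comp]
    exact congrArg q'.appTop.hom hn.symm
  letI overk : P.Over (Spec (CommRingCat.of k)) := ⟨q⟩
  haveI : IsClosedImmersion j := inferInstance
  haveI : IsProper (P ↘ Spec (CommRingCat.of k)) :=
    inferInstanceAs (IsProper (j ≫ X' ↘ Spec (CommRingCat.of k)))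
  have hdim : topologicalKrullDim P ≤ 1 := CurveMult.P1Split.dim_le κ
  have hO : pull j (ecls k hx hb) = tw κ 1 1 := by
    rw [ecls, ← Cube.clsMod_pullback j, Cube.clsMod_eq_iff]
    exact ⟨t⟩
  have h1 : pull ((CohB1.ProjSpace 2 k).fromSpecResidueField x) (tw k 2 p) = 1 :=
    Cube.pic_spec_field_eq_one (F := κ) (pull ((CohB1.ProjSpace 2 k).fromSpecResidueField x) (tw k 2 p))
  have hpull : pull j (M k hx hb p n) = tw κ 1 n := by
    rw [M, map_mul, map_zpow, hO, Cube.pull_comp, hjb, ← Cube.pull_comp, tw_eq_zpow κ 1 n]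
    erw [h1, map_one, one_mul]
  have hnext : M k hx hb p n * clsMod hIj = M k hx hb p (n + 1) := by
    rw [hclj, M, M, mul_assoc, ← zpow_add_one]
  have hdeg : ptDeg k x = 1 := ptDeg_eq_one k hx
  have hfr : ∀ i, Module.finrank k (Coh.HH P (rep (pull j (M k hx hb p n))) i) =
      Module.finrank κ (Coh.HH P (Twist.twistProjSpace 1 κ n) i) := fun i => by
    rw [hpull]
    obtain ⟨w⟩ := (Cube.clsMod_eq_iff (CMReg.isInvertible_twist (n := 1) (k := κ) n) (isInv_rep _)).1
      (cls_rep (tw κ 1 n)).symm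
    rw [← (Euler.hhEquiv (A := k) w i).finrank_eq]
    refine (ArSurf29.finrank_HH_mul k q q' φ hφ (Twist.twistProjSpace 1 κ n) i).trans ?_
    show ptDeg k x * _ = _
    rw [hdeg, one_mul]
  have c0 : Module.finrank k (Coh.HH P (rep (pull j (M k hx hb p n))) 0) = (n + 1).toNat := by
    rw [hfr, CurveMult.P1Split.finrank_H0_O1]
  have c1 : -1 ≤ n → Module.finrank k (Coh.HH P (rep (pull j (M k hx hb p n))) 1) = 0 := fun hn => by
    rw [hfr]
    haveI := CurveMult.P1Split.subsingleton_H1 κ (d := n) hn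
    exact Module.finrank_zero_of_subsingleton
  obtain ⟨s1, s2, -, -, s5, s6, -⟩ := HypSq28.seq k j rfl hIj hdim (M k hx hb p n)
  have sle := seq_le k j rfl hIj (M k hx hb p n)
  rw [hnext] at s1 s2 s5 s6 sle
  simp only [H]
  rw [c0] at sle
  refine ⟨s2, ?_, sle, fun hn => ?_, s5, fun hn => s6 (c1 hn)⟩
  · exact s1 rfl rfl c0.symm
  · simpa using s1 (n := 1) rfl rfl (c1 hn).symm

include hover in
/-- The restriction to the strict transform of a line through the point. -/
theorem line_step (p n : ℤ) :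
    H k hx hb (p - 1) (n - 1) 0 ≤ H k hx hb p n 0 ∧
      H k hx hb p n 0 ≤ H k hx hb (p - 1) (n - 1) 0 + (p - n + 1).toNat ∧
      (-1 ≤ p - n → H k hx hb p n 1 ≤ H k hx hb (p - 1) (n - 1) 1) ∧
      (-1 ≤ p - n → H k hx hb (p - 1) (n - 1) 2 = H k hx hb p n 2) := by
  haveI := isProper_over k hx hb hover
  haveI := Euler.isNoetherian_of_proper (X := CohB1.ProjSpace 2 k) k
  haveI := Euler.isNoetherian_of_proper (X := X') k
  haveI : IsProper b := GrothLib.BlowUpProper.isProper_of_isBlowUp hb
  haveI : IsIntegral (CohB1.ProjSpace 2 k) := ProjDim.isIntegral_proj k 2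
  haveI : IsIntegral (CohB1.ProjSpace 1 k) := ProjDim.isIntegral_proj k 1
  haveI : Smooth (CohB1.ProjSpace 1 k ↘ Spec (CommRingCat.of k)) := GrothLib.CurveMult.smooth_toSpec 1 k
  obtain ⟨j, hjc, a, hIl, hja, hac, hjover, hjpull, hjcls⟩ := exists_line k x hx
  have hptI : Scheme.IdealSheafData.vanishingIdeal ⟨{x}, hx⟩ = ArSurf29.ptIdeal (j a) :=
    congrArg Scheme.IdealSheafData.vanishingIdeal (Closeds.ext (by
      show ({x} : Set _) = closure {j a}
      rw [hja, hx.closure_eq]))
  have hcomap : (Scheme.IdealSheafData.vanishingIdeal ⟨{x}, hx⟩).comap j =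
      ((CohB1.ProjSpace 1 k).fromSpecResidueField a).ker := by
    rw [hptI, Contract29.comap_ptIdeal j a hac, CurveMult.ker_fromSpecResidueField hac]
  have hd1 : topologicalKrullDim (CohB1.ProjSpace 1 k) = 1 := CurveMult.P1Split.dim_P1 k
  have hJ := HodgeIndex.isInvertible_point (k := k) hd1 hac
  have hJc := IdealModSec.isEffCartier_of_isInvertible hJ
  obtain ⟨g, hg, -⟩ := hb.2 _ j (hcomap.symm ▸ hJc)
  haveI : IsClosedImmersion g := by
    haveI : IsClosedImmersion (g ≫ b) := hg.symm ▸ hjc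
    exact IsClosedImmersion.of_comp g b
  have hgover : g ≫ X' ↘ Spec (CommRingCat.of k) = CohB1.ProjSpace 1 k ↘ Spec (CommRingCat.of k) := by
    rw [← hover, ← Category.assoc, hg]
    exact hjover
  haveI : IsProper (CohB1.ProjSpace.toSpec 1 k) := Chow.isProper_toSpec 1 k
  -- restrictions
  obtain ⟨d, ⟨w⟩⟩ := ProjPic26.exists_iso_twist (R := k) (n := 1) hJ
  have hd : d = -1 := by
    let t : Spec (CommRingCat.of k) ⟶ CohB1.ProjSpace 1 k :=
      Spec.map (residueFieldIsoBase (CohB1.ProjSpace.toSpec 1 k) a hac).hom ≫ (CohB1.ProjSpace 1 k).fromSpecResidueField a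
    have ht : t ≫ CohB1.ProjSpace 1 k ↘ Spec (CommRingCat.of k) = 𝟙 _ := by
      show (_ ≫ _) ≫ CohB1.ProjSpace.toSpec 1 k = _
      rw [Category.assoc, ← SpecMap_residueFieldIsoBase_inv (CohB1.ProjSpace.toSpec 1 k) a hac, ← Spec.map_comp,
        Iso.inv_hom_id, Spec.map_id]
    have h := CurveProd28.deg_idealMod_pt k hd1 t ht
    rw [CurveProd28.ker_pt k t ht, show t (IsLocalRing.closedPoint k) = a from
      (CohB1.ProjSpace 1 k).fromSpecResidueField_apply a _] at h
    have h2 := CurveMult.P1Split.deg_O1 k d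
    rw [Curv2.deg, Euler.euler_of_iso k w] at h
    rw [Curv2.deg] at h2
    exact h2.symm.trans h
  have hge : pull g (ecls k hx hb) = tw k 1 (-1) := by
    have hcJ : ((Scheme.IdealSheafData.vanishingIdeal ⟨{x}, hx⟩).comap b).comap g =
        ((CohB1.ProjSpace 1 k).fromSpecResidueField a).ker := by
      rw [← Scheme.IdealSheafData.comap_comp, hg, hcomap]
    have hJ' : PicF.IsInvertible (ClSub.idealMod
        (((Scheme.IdealSheafData.vanishingIdeal ⟨{x}, hx⟩).comap b).comap g)) := hcJ.symm ▸ hJ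
    rw [ecls, Contract29.pull_cls_comap g _ _ hJ', tw, Cube.clsMod_eq_iff, ← hd]
    exact ⟨eqToIso (by rw [hcJ]) ≪≫ w⟩
  have hgM : ∀ p n : ℤ, pull g (M k hx hb p n) = tw k 1 (p - n) := fun p n => by
    rw [M, map_mul, map_zpow, hge, Cube.pull_comp, hg, tw_eq_zpow k 2 p, map_zpow, hjpull,
      tw_eq_zpow k 1 (-1), ← zpow_mul, tw_eq_zpow k 1 (p - n)]
    rw [← zpow_add]
    congr 1
    ring
  -- the class of the strict transform
  haveI : IsIso g.toImage := inferInstance
  haveI : IsIntegral g.ker.subscheme := by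
    haveI : Nonempty g.ker.subscheme := ⟨g.toImage a⟩
    exact isIntegral_of_isOpenImmersion (inv g.toImage : g.ker.subscheme ⟶ _)
  have hJ0 : (Scheme.IdealSheafData.vanishingIdeal ⟨{x}, hx⟩ : (CohB1.ProjSpace 2 k).IdealSheafData) ≠ ⊥ := by
    intro h
    have h1 := congrArg (fun I => (Scheme.IdealSheafData.support I : Set (CohB1.ProjSpace 2 k))) h
    simp only [Scheme.IdealSheafData.coe_support_vanishingIdeal, Scheme.IdealSheafData.support_bot,
      Closeds.coe_top] at h1
    have h2 : genericPoint (CohB1.ProjSpace 2 k) = x := by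
      have : genericPoint (CohB1.ProjSpace 2 k) ∈ ({x} : Set _) := by
        rw [show ({x} : Set (CohB1.ProjSpace 2 k)) = Set.univ from h1]; trivial
      exact this
    have h3 := dim_stalk_plane k hx
    rw [← h2] at h3
    have h4 : ringKrullDim ((CohB1.ProjSpace 2 k).presheaf.stalk (genericPoint (CohB1.ProjSpace 2 k))) = 0 :=
      ringKrullDim_eq_zero_of_field (CohB1.ProjSpace 2 k).functionField
    rw [h4] at h3
    norm_num at h3
  haveI : IsIntegral X' := (Groth.Agent.S2348.result _ hJ0 _ hb).choose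
  haveI : Smooth (CohB1.ProjSpace 2 k ↘ Spec (CommRingCat.of k)) := GrothLib.CurveMult.smooth_toSpec 2 k
  haveI : IsNoetherian (CohB1.ProjSpace 2 k) := Euler.isNoetherian_of_proper (X := CohB1.ProjSpace 2 k) k
  have hregX' := GrothLib.ExcP1.regular_of_blowUp (regular_plane k) hx (dim_stalk_plane k hx) hb
  have hdX' : topologicalKrullDim X' = ((2 : ℕ) : WithBot ℕ∞) := by
    refine le_antisymm (dim_le_two (regular_plane k) hx (dim_stalk_plane k hx) hb (dim_plane k).le) ?_
    haveI : JacobsonSpace (CohB1.ProjSpace 2 k) := LocallyOfFiniteType.jacobsonSpace (CohB1.ProjSpace 2 k ↘ Spec (CommRingCat.of k))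
    obtain ⟨y, hyU, hyc⟩ := nonempty_inter_closedPoints (X := CohB1.ProjSpace 2 k) (Z := ({x} : Set _)ᶜ)
      ⟨genericPoint (CohB1.ProjSpace 2 k), fun h => by
        have h3 := dim_stalk_plane k hx
        rw [← show genericPoint (CohB1.ProjSpace 2 k) = x from h] at h3
        have h4 : ringKrullDim ((CohB1.ProjSpace 2 k).presheaf.stalk (genericPoint (CohB1.ProjSpace 2 k))) = 0 :=
          ringKrullDim_eq_zero_of_field (CohB1.ProjSpace 2 k).functionField
        rw [h4] at h3
        norm_num at h3⟩ hx.isOpen_compl.isLocallyClosed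
    have hb' := GrothLib.BlowUp.isIso_off_center hb
    obtain ⟨w, hw⟩ := (b ∣_ (Scheme.IdealSheafData.vanishingIdeal ⟨{x}, hx⟩ : (CohB1.ProjSpace 2 k).IdealSheafData).support.compl).surjective
      ⟨y, fun h => hyU (by
        have h' : y ∈ ((Scheme.IdealSheafData.vanishingIdeal ⟨{x}, hx⟩ : (CohB1.ProjSpace 2 k).IdealSheafData).support : Set _) := h
        rwa [Scheme.IdealSheafData.coe_support_vanishingIdeal] at h')⟩
    have hbw : b w.1 = y := (morphismRestrict_base_coe b _ w).symm.trans (congrArg Subtype.val hw)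
    haveI := GrothLib.ExcP1.isIso_stalkMap_off hx hb (show b w.1 ≠ x by rw [hbw]; exact hyU)
    haveI : IsIntegral (CohB1.ProjSpace 2 k) := ProjDim.isIntegral_proj k 2
    have h5 := dim_stalk_closed k (components_of_irreducible (by exact_mod_cast dim_plane k)) hyc
    rw [← hbw] at h5
    refine le_of_eq_of_le ?_ (GrothLib.Ref1.ringKrullDim_stalk_le_topologicalKrullDim w.1)
    rw [← ringKrullDim_eq_of_ringEquiv (asIso (b.stalkMap w.1)).commRingCatIsoToRingEquiv, h5]
    rfl
  have hgd : topologicalKrullDim (g.ker.support : Set X') = 1 := by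
    rw [← Scheme.IdealSheafData.range_subschemeι, ← IsHomeomorph.topologicalKrullDim_eq _
      (g.ker.subschemeι.isClosedEmbedding.isEmbedding.toHomeomorph).isHomeomorph,
      ← IsHomeomorph.topologicalKrullDim_eq _ (asIso g.toImage).schemeIsoToHomeo.isHomeomorph]
    exact hd1
  have hgI : PicF.IsInvertible (ClSub.idealMod g.ker) := IdealModSec.isInvertible_of_isEffCartier
    (HodgeIndex.isEffCartier_curve hdX' hregX' g.ker (HodgeIndex.isTop_of_curve k hgd))
  obtain ⟨-, hexc, -, -, -⟩ := main k (regular_plane k) hx (dim_stalk_plane k hx) hb hover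
  obtain ⟨m, s, hε⟩ : ∃ m s : ℤ, clsMod hgI = M k hx hb m s := by
    haveI := regular_plane k x
    set Ex := _root_.BlowUp.exceptional b (Scheme.IdealSheafData.vanishingIdeal ⟨{x}, hx⟩)
    obtain ⟨e, he, ⟨te⟩⟩ := GrothLib.ExcP1.exists_iso_point hx (dim_stalk_plane k hx) hb
    let κ := (CohB1.ProjSpace 2 k).residueField x
    haveI : IsIntegral (CohB1.ProjSpace 1 κ) := ProjDim.isIntegral_proj κ 1
    let jE : CohB1.ProjSpace 1 κ ⟶ X' := e.hom ≫ Ex.subschemeι
    have hjE : pull jE (ecls k hx hb) = tw κ 1 1 := by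
      rw [ecls, ← Cube.clsMod_pullback jE, Cube.clsMod_eq_iff]
      exact ⟨te⟩
    obtain ⟨s, ⟨ws⟩⟩ := ProjPic26.exists_iso_twist (R := κ) (n := 1) (Ample.isInvertible_pullback jE hgI)
    have hs : pull jE (clsMod hgI) = tw κ 1 s := by
      rw [← Cube.clsMod_pullback jE hgI]
      exact (Cube.clsMod_eq_iff _ _).2 ⟨ws⟩
    have htriv : pull jE (clsMod (isInv_rep (clsMod hgI * ecls k hx hb ^ (-s)))) = 1 := by
      rw [cls_rep, map_mul, map_zpow, hjE, hs, ← tw_eq_zpow, tw_add, add_neg_cancel, tw_zero]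
    have hfib : Set.range jE = b ⁻¹' {x} := by
      show Set.range (e.hom ≫ Ex.subschemeι) = _
      rw [Scheme.Hom.comp_base, TopCat.coe_comp, Set.range_comp,
        show Set.range e.hom = Set.univ from Set.range_eq_univ.2 e.hom.surjective, Set.image_univ,
        Scheme.IdealSheafData.range_subschemeι, Scheme.IdealSheafData.support_comap]
      show b ⁻¹' ((Scheme.IdealSheafData.vanishingIdeal ⟨{x}, hx⟩ : (CohB1.ProjSpace 2 k).IdealSheafData).support : Set _) = _
      rw [Scheme.IdealSheafData.coe_support_vanishingIdeal]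
      rfl
    obtain ⟨Q, hQ⟩ := Contract29.exists_descent_of_trivial jE b
      (fun V => isIso_app (regular_plane k) hx (dim_stalk_plane k hx) hb V) hx (dim_stalk_plane k hx) hb hfib
      (isInv_rep _) htriv
    obtain ⟨m, ⟨wm⟩⟩ := ProjPic26.exists_iso_twist (R := k) (n := 2) (isInv_rep Q)
    refine ⟨m, s, ?_⟩
    have hQm : Q = tw k 2 m := (cls_rep Q).symm.trans ((Cube.clsMod_eq_iff _ _).2 ⟨wm⟩)
    show _ = pull b (tw k 2 m) * _
    rw [← hQm, hQ, cls_rep, mul_assoc, ← zpow_add, neg_add_cancel, zpow_zero]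
    exact (mul_one _).symm
  have hε' : ∀ p n : ℤ, M k hx hb p n * clsMod hgI = M k hx hb (p + m) (n + s) := fun p n => by
    rw [hε]
    simp only [M, tw_eq_zpow k 2 p, tw_eq_zpow k 2 m, tw_eq_zpow k 2 (p + m), zpow_add, map_mul]
    exact mul_mul_mul_comm _ _ _ _
  have hdl := CurveMult.P1Split.dim_le k
  have hχ1 : ∀ c : ℤ, chi k (tw k 1 c) = c + 1 := fun c => by
    rw [← euler_eq_chi k]
    exact CurveMult.P1Split.euler_O1 k c
  have hrel : ∀ p n : ℤ, (p + 1) * (p + 2) - n * (n + 1) =
      (p + m + 1) * (p + m + 2) - (n + s) * (n + s + 1) + 2 * (p - n + 1) := fun p n => by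
    obtain ⟨-, -, -, -, -, -, h⟩ := HypSq28.seq k g hgover hgI hdl (M k hx hb p n)
    rw [hε', hgM, hχ1] at h
    have a1 := chi_M k hx hb hover p n
    have a2 := chi_M k hx hb hover (p + m) (n + s)
    linarith
  have hm : m = -1 := by linarith [hrel 0 0, hrel 1 0]
  have hs : s = -1 := by linarith [hrel 0 0, hrel 0 1]
  obtain ⟨s1, s2, -, -, -, s6, -⟩ := HypSq28.seq k g hgover hgI hdl (M k hx hb p n)
  rw [hε', hgM, hm, hs, ← sub_eq_add_neg, ← sub_eq_add_neg] at s1 s6
  rw [hε', hm, hs, ← sub_eq_add_neg, ← sub_eq_add_neg] at s2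
  have c0 : Module.finrank k (Coh.HH (CohB1.ProjSpace 1 k) (rep (tw k 1 (p - n))) 0) = (p - n + 1).toNat := by
    rw [finrank_rep_tw, CurveMult.P1Split.finrank_H0_O1]
  have c1 : -1 ≤ p - n → Module.finrank k (Coh.HH (CohB1.ProjSpace 1 k) (rep (tw k 1 (p - n))) 1) = 0 := fun h => by
    rw [finrank_rep_tw]
    haveI := CurveMult.P1Split.subsingleton_H1 k (d := p - n) h
    exact Module.finrank_zero_of_subsingleton
  simp only [H]
  exact ⟨s2, s1 rfl rfl c0.symm, fun h => by simpa using s1 (n := 1) rfl rfl (c1 h).symm, fun h => s6 (c1 h)⟩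

include hover in
/-- `π^*O(p)(-(p+1)E)` has no cohomology. -/
theorem H_key (p : ℤ) (i : ℕ) (hi : i ≤ 2) : H k hx hb p (p + 1) i = 0 := by
  have hall : H k hx hb p (p + 1) 0 = 0 ∧ H k hx hb p (p + 1) 1 = 0 ∧ H k hx hb p (p + 1) 2 = 0 := by
    induction p using Int.inductionOn' (b := -1) with
    | zero =>
      obtain ⟨a, b', c⟩ := H_zero k hx hb hover (-1)
      norm_num at a c
      rw [neg_add_cancel]
      exact ⟨a, b', c⟩
    | succ q hq ih =>
      obtain ⟨-, a, b', c⟩ := line_step k hx hb hover (q + 1) (q + 1 + 1)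
      simp only [add_sub_cancel_right] at a b' c
      have := c (by omega)
      have := b' (by omega)
      omega
    | pred q hq ih =>
      obtain ⟨a, -, -, c⟩ := line_step k hx hb hover q (q + 1)
      simp only [add_sub_cancel_right] at a c
      rw [sub_add_cancel]
      have := c (by omega)
      have h1 := chi_sum k hx hb hover (q - 1) q
      have h2 := chi_M k hx hb hover (q - 1) q
      have h3 : (q - 1 + 1) * (q - 1 + 2) - q * (q + 1) = 0 := by ring
      omega
  interval_cases i <;> simp [hall.1, hall.2.1, hall.2.2]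

include hover in
theorem H0_antitone (p : ℤ) : Antitone fun n => H k hx hb p n 0 :=
  antitone_int_of_succ_le fun n => (exc_step k hx hb hover p n).1

include hover in
theorem H2_monotone (p : ℤ) : Monotone fun n => H k hx hb p n 2 :=
  monotone_int_of_le_succ fun n => (exc_step k hx hb hover p n).2.2.2.2.1

include hover in
/-- Non-positive exceptional twist keeps the sections. -/
theorem H0_of_nonpos (p n : ℤ) (hn : n ≤ 0) : H k hx hb p n 0 = (p + 2).toNat.choose 2 := by
  induction n, hn using Int.le_induction_down with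
  | base => exact (H_zero k hx hb hover p).1
  | pred n hn ih =>
    obtain ⟨a, b', -⟩ := exc_step k hx hb hover p (n - 1)
    rw [sub_add_cancel] at a b'
    omega

include hover in
/-- Positive exceptional twist keeps the second cohomology. -/
theorem H2_of_nonneg (p n : ℤ) (hn : 0 ≤ n) : H k hx hb p n 2 = (-p - 1).toNat.choose 2 := by
  induction n, hn using Int.le_induction with
  | base => exact (H_zero k hx hb hover p).2.2
  | succ n hn ih => rw [(exc_step k hx hb hover p n).2.2.2.2.2 (by omega), ih]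

include hover in
theorem H0_eq_zero (p n : ℤ) (hn : p + 1 ≤ n) : H k hx hb p n 0 = 0 :=
  Nat.le_zero.1 (((H0_antitone k hx hb hover p) hn).trans (H_key k hx hb hover p 0 (by omega)).le)

include hover in
theorem H2_eq_zero (p n : ℤ) (hn : n ≤ p + 1) : H k hx hb p n 2 = 0 :=
  Nat.le_zero.1 (((H2_monotone k hx hb hover p) hn).trans (H_key k hx hb hover p 2 le_rfl).le)

include hover in
theorem H1_eq_zero_of_le (p n : ℤ) (h0 : -1 ≤ n) (hn : n ≤ p + 1) : H k hx hb p n 1 = 0 := by
  revert h0
  induction n, hn using Int.le_induction_down with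
  | base => exact fun _ => H_key k hx hb hover p 1 (by omega)
  | pred n hn ih =>
    intro h0
    have h := (exc_step k hx hb hover p (n - 1)).2.2.2.1 h0
    rw [sub_add_cancel, ih (by omega)] at h
    omega

include hover in
theorem H1_eq_zero_of_ge (p n : ℤ) (h0 : n ≤ 0) (hn : p + 1 ≤ n) : H k hx hb p n 1 = 0 := by
  revert h0
  induction n, hn using Int.le_induction with
  | base => exact fun _ => H_key k hx hb hover p 1 (by omega)
  | succ n hn ih =>
    intro h0
    have h := (exc_step k hx hb hover p n).2.2.1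
    rw [ih (by omega), Int.toNat_eq_zero.2 (by omega)] at h
    omega

include hover in
/-- The cohomology of a module with the class of `M p n`. -/
theorem finrank_eq_H {E : X'.Modules} (hE : PicF.IsInvertible E) {p n : ℤ}
    (h : clsMod hE = M k hx hb p n) (i : ℕ) : Module.finrank k (Coh.HH X' E i) = H k hx hb p n i := by
  obtain ⟨e⟩ := (Cube.clsMod_eq_iff hE (isInv_rep _)).1 (h.trans (cls_rep _).symm)
  exact (Euler.hhEquiv (A := k) e i).finrank_eq

theorem two_mul_choose_two (m : ℕ) : 2 * (m.choose 2 : ℤ) = (m : ℤ) * ((m : ℤ) - 1) := by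
  induction m with
  | zero => simp
  | succ m ih =>
    rw [Nat.choose_succ_succ', Nat.choose_one_right]
    push_cast
    linarith

end GrothLib.BlowPt28
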