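import Groth.Agent.Lib.BlowPt28.Apply
import Groth.Agent.Lib.HypSq28.Seq
import Groth.Agent.Lib.Contract29.Twist
import Groth.Agent.Lib.CurveMult.P1Split
import Groth.Agent.Lib.CMReg.StructureRegular
import Groth.Agent.Lib.ProjPic26.Main
import Groth.Agent.Lib.Hyperplane.Pullback
import Groth.Agent.Lib.Chow.Prod
import Groth.Agent.S10829

/-!
# Lines of the projective plane through a given point
-/

universe u

set_option autoImplicit false
set_option linter.all false
set_option backward.isDefEq.respectTransparency false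
set_option maxHeartbeats 1000000

open CategoryTheory CategoryTheory.Limits AlgebraicGeometry TopologicalSpace MvPolynomial HomogeneousLocalization

noncomputable section

namespace GrothLib.BlowPt28

open GrothLib.Cube (Pic clsMod pull)
open GrothLib.HodgeIndex (rep isInv_rep cls_rep chi euler_eq_chi chi_one isect)

variable (k : Type u) [Field k] [IsAlgClosed k]

/-- A linear form vanishing at a closed point. -/
theorem exists_linear_mem (x : CohB1.ProjSpace 2 k) (hx : IsClosed ({x} : Set (CohB1.ProjSpace 2 k))) :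
    ∃ l : MvPolynomial (Fin (2 + 1)) k, l ∈ CohB1.polyGrading 2 k 1 ∧ l ≠ 0 ∧ l ∈ x.asHomogeneousIdeal := by
  let P := CohB1.polyGrading 2 k
  let p : CohB1.ProjSpace 2 k ⟶ Spec (CommRingCat.of k) := CohB1.ProjSpace.toSpec 2 k
  haveI : IsProper p := Chow.isProper_toSpec 2 k
  let t : Spec (CommRingCat.of k) ⟶ CohB1.ProjSpace 2 k :=
    Spec.map (residueFieldIsoBase p x hx).hom ≫ (CohB1.ProjSpace 2 k).fromSpecResidueField x
  have ht : t ≫ p = 𝟙 _ := by
    show (_ ≫ _) ≫ _ = _
    rw [Category.assoc, ← SpecMap_residueFieldIsoBase_inv p x hx, ← Spec.map_comp, Iso.inv_hom_id, Spec.map_id]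
  have hpt : ∀ q, t q = x := fun q => (CohB1.ProjSpace 2 k).fromSpecResidueField_apply x _
  obtain ⟨i, hi⟩ := Opens.mem_iSup.mp ((Ample.ProjMap.iSup_basicOpen_X 2 k).ge (Opens.mem_top x))
  have hpre : t ⁻¹ᵁ Proj.basicOpen P (X i) = ⊤ := eq_top_iff.2 fun q _ => by
    show t q ∈ Proj.basicOpen P (X i)
    rw [hpt q]
    exact hi
  obtain ⟨g, hg⟩ := ProjPt.exists_eq_pt P (Ample.ProjMap.X_mem (R := k) i) one_pos t hpre
  have hgc : CommRingCat.ofHom (g.comp (Ample.ProjMap.cst (X i))) = CommRingCat.ofHom (ProjUP.toGlobal (𝟙 (Spec (CommRingCat.of k)))) := by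
    refine ProjPt.toSpecΓ_comp_SpecMap_injective (T := Spec (CommRingCat.of k)) ?_
    rw [← Ample.ProjMap.eq_toSpecΓ_toGlobal, ← Ample.ProjMap.pt_toSpec, ← hg]
    exact ht
  obtain ⟨j, hji⟩ := exists_ne i
  obtain ⟨c, hc⟩ : ∃ c, g (Ample.ProjMap.cst (X i) c) = g (Ample.ProjMap.ratio i j) := by
    have hs : Function.Surjective (ProjUP.toGlobal (𝟙 (Spec (CommRingCat.of k)))) := by
      intro z
      obtain ⟨c, hc⟩ := (ConcreteCategory.bijective_of_isIso (Scheme.ΓSpecIso (CommRingCat.of k)).inv).2 z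
      exact ⟨c, by simpa [ProjUP.toGlobal] using hc⟩
    obtain ⟨c, hc⟩ := hs (g (Ample.ProjMap.ratio i j))
    exact ⟨c, (RingHom.congr_fun (congrArg CommRingCat.Hom.hom hgc) c).trans hc⟩
  let l : MvPolynomial (Fin (2 + 1)) k := X j - C c * X i
  have hl : l ∈ P 1 := Submodule.sub_mem _ (isHomogeneous_X k j) ((isHomogeneous_X k i).C_mul c)
  refine ⟨l, hl, fun h => ?_, ?_⟩
  · have h1 := congrArg (MvPolynomial.coeff (Finsupp.single j 1)) h
    have h2 : ¬ (Finsupp.single i 1 : Fin (2 + 1) →₀ ℕ) = Finsupp.single j 1 :=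
      fun h' => hji (Finsupp.single_left_injective one_ne_zero h').symm
    simp [l, MvPolynomial.coeff_C_mul, MvPolynomial.coeff_X', h2] at h1
  · have he : Away.isLocalizationElem (Ample.ProjMap.X_mem (R := k) i) hl =
        Ample.ProjMap.ratio i j - Ample.ProjMap.cst (X i) c := by
      apply HomogeneousLocalization.val_injective
      refine (IsLocalization.Away.algebraMap_isUnit (S := Localization.Away (X i : MvPolynomial (Fin (2 + 1)) k)) (X i : MvPolynomial (Fin (2 + 1)) k)).mul_left_injective ?_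
      dsimp only
      rw [HomogeneousLocalization.val_sub, sub_mul, Ample.ProjMap.ratio_val, Ample.ProjMap.cst_val, ← map_mul, ← map_sub,
        Away.isLocalizationElem, Away.val_mk, Localization.mk_eq_mk']
      refine Eq.trans ?_ (IsLocalization.mk'_spec (Localization.Away (X i : MvPolynomial (Fin (2 + 1)) k)) l
        (⟨X i ^ 1, 1, rfl⟩ : Submonoid.powers (X i : MvPolynomial (Fin (2 + 1)) k)))
      simp [l]
    have h := ProjPt.pt_preimage_basicOpen P (Ample.ProjMap.X_mem (R := k) i) one_pos g hl one_pos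
    rw [← hg, he, map_sub, hc, sub_self, Scheme.basicOpen_zero] at h
    by_contra hn
    exact h.le (show IsLocalRing.closedPoint k ∈ t ⁻¹ᵁ Proj.basicOpen P l from by
      show t _ ∈ Proj.basicOpen P l
      rw [hpt]
      exact hn)

/-- A line through a closed point. -/
theorem exists_line (x : CohB1.ProjSpace 2 k) (hx : IsClosed ({x} : Set (CohB1.ProjSpace 2 k))) :
    ∃ (j : CohB1.ProjSpace 1 k ⟶ CohB1.ProjSpace 2 k) (_ : IsClosedImmersion j) (a : CohB1.ProjSpace 1 k)
      (hI : PicF.IsInvertible (ClSub.idealMod j.ker)),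
      j a = x ∧ IsClosed ({a} : Set (CohB1.ProjSpace 1 k)) ∧
      j ≫ CohB1.ProjSpace.toSpec 2 k = CohB1.ProjSpace.toSpec 1 k ∧
      pull j (clsMod (CMReg.isInvertible_twist (n := 2) (k := k) 1)) = clsMod (CMReg.isInvertible_twist (n := 1) (k := k) 1) ∧
      clsMod hI = clsMod (CMReg.isInvertible_twist (n := 2) (k := k) (-1)) := by
  classical
  obtain ⟨l, hl, hl0, hlx⟩ := exists_linear_mem k x hx
  obtain ⟨ψ, hψs, hker, hψC⟩ := Groth.Agent.S7676.exists_projection k 1 l hl hl0
  let A := CohB1.polyGrading 2 k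
  let B := CohB1.polyGrading 1 k
  have hψ := Groth.Agent.S7676.irrelevant_le_map A B ψ hψs
  let j : CohB1.ProjSpace 1 k ⟶ CohB1.ProjSpace 2 k := Proj.map ψ hψ
  haveI hjc : IsClosedImmersion j := GradedAlg.isClosedImmersion_map ψ hψ hψs
  -- the point of the line
  let q : Ideal (MvPolynomial (Fin (1 + 1)) k) := Ideal.map ψ x.asHomogeneousIdeal.toIdeal
  have hkle : RingHom.ker ψ ≤ x.asHomogeneousIdeal.toIdeal := by
    rw [hker, Ideal.span_singleton_le_iff_mem]
    exact hlx
  have hcomap : q.comap ψ = x.asHomogeneousIdeal.toIdeal := by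
    rw [Ideal.comap_map_of_surjective _ hψs]
    exact sup_of_le_left hkle
  let a : CohB1.ProjSpace 1 k :=
    { asHomogeneousIdeal := x.asHomogeneousIdeal.map ψ
      isPrime := by
        haveI := x.isPrime
        exact Ideal.map_isPrime_of_surjective hψs hkle
      not_irrelevant_le := fun h => x.not_irrelevant_le fun z hz => by
        rw [← SetLike.mem_coe] at hz
        have h1 : ψ z ∈ q := h ((HomogeneousIdeal.mem_irrelevant_iff _ _).2 (by
          have hz0 := (HomogeneousIdeal.mem_irrelevant_iff _ _).1 hz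
          rw [GradedRing.proj_apply] at hz0 ⊢
          rw [Groth.Agent.S7676.decompose_map A B ψ, hz0, map_zero]))
        exact hcomap.le h1 }
  have hja : j a = x := ProjectiveSpectrum.ext (HomogeneousIdeal.toIdeal_injective hcomap)
  have hac : IsClosed ({a} : Set (CohB1.ProjSpace 1 k)) := by
    have h1 := hx.preimage j.continuous
    have h2 : j ⁻¹' {x} = {a} := Set.ext fun w => ⟨fun hw => j.isClosedEmbedding.injective (hw.trans hja.symm), fun hw => by
      rw [Set.mem_singleton_iff.1 hw]; exact hja⟩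
    rwa [h2] at h1
  have hover : j ≫ CohB1.ProjSpace.toSpec 2 k = CohB1.ProjSpace.toSpec 1 k := by
    show Proj.map ψ hψ ≫ Proj.toSpecZero A ≫ _ = Proj.toSpecZero _ ≫ _
    rw [← Category.assoc, RelProjK.map_toSpecZero, Category.assoc, ← Spec.map_comp]
    congr 2
    refine CommRingCat.hom_ext (RingHom.ext fun b => Subtype.ext ?_)
    show ψ (C b) = C b
    exact hψC b
  obtain ⟨e⟩ := Hyperplane.nonempty_pullback_twist_one ψ hψ
    (fun i : ULift.{u} (Fin (2 + 1)) => X i.down) (fun i => Ample.ProjMap.X_mem i.down) (CMReg.cc 2 k).cover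
  have hT1 := CMReg.isInvertible_twist (n := 2) (k := k) 1
  have hU1 := CMReg.isInvertible_twist (n := 1) (k := k) 1
  have hpull : pull j (clsMod hT1) = clsMod hU1 := by
    rw [← Cube.clsMod_pullback j hT1, Cube.clsMod_eq_iff]
    exact ⟨e⟩
  -- the class of the line
  haveI hi2 : IsIntegral (CohB1.ProjSpace 2 k) := ProjDim.isIntegral_proj k 2
  haveI : IsIntegral (CohB1.ProjSpace 1 k) := ProjDim.isIntegral_proj k 1
  letI : (CohB1.ProjSpace 2 k).Over (Spec (CommRingCat.of k)) := ⟨CohB1.ProjSpace.toSpec 2 k⟩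
  letI : (CohB1.ProjSpace 1 k).Over (Spec (CommRingCat.of k)) := ⟨CohB1.ProjSpace.toSpec 1 k⟩
  haveI : Smooth (CohB1.ProjSpace 2 k ↘ Spec (CommRingCat.of k)) := GrothLib.CurveMult.smooth_toSpec 2 k
  haveI : IsProper (CohB1.ProjSpace 2 k ↘ Spec (CommRingCat.of k)) := Chow.isProper_toSpec 2 k
  haveI : IsProper (CohB1.ProjSpace 1 k ↘ Spec (CommRingCat.of k)) := Chow.isProper_toSpec 1 k
  haveI := Euler.isNoetherian_of_proper (X := CohB1.ProjSpace 2 k) k
  haveI : IsIso j.toImage := inferInstance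
  haveI : IsIntegral j.ker.subscheme := by
    haveI : Nonempty j.ker.subscheme := ⟨j.toImage a⟩
    exact isIntegral_of_isOpenImmersion (inv j.toImage : j.ker.subscheme ⟶ _)
  have hd1 : topologicalKrullDim (j.ker.support : Set (CohB1.ProjSpace 2 k)) = 1 := by
    rw [← Scheme.IdealSheafData.range_subschemeι, ← IsHomeomorph.topologicalKrullDim_eq _
      (j.ker.subschemeι.isClosedEmbedding.isEmbedding.toHomeomorph).isHomeomorph,
      ← IsHomeomorph.topologicalKrullDim_eq _ (asIso j.toImage).schemeIsoToHomeo.isHomeomorph]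
    exact CurveMult.P1Split.dim_P1 k
  have hd2 : topologicalKrullDim (CohB1.ProjSpace 2 k) = ((2 : ℕ) : WithBot ℕ∞) := by
    exact_mod_cast Groth.Agent.S10829.result k 2
  have hI := IdealModSec.isInvertible_of_isEffCartier (HodgeIndex.isEffCartier_curve hd2
    (HodgeIndex.regular_of_smooth k) j.ker (HodgeIndex.isTop_of_curve k hd1))
  refine ⟨j, hjc, a, hI, hja, hac, hover, hpull, ?_⟩
  obtain ⟨m, ⟨w⟩⟩ := ProjPic26.exists_iso_twist (R := k) (n := 2) hI
  have hcm : clsMod hI = clsMod (CMReg.isInvertible_twist (n := 2) (k := k) m) := (Cube.clsMod_eq_iff _ _).2 ⟨w⟩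
  have hadd : ∀ s t : ℤ, clsMod (CMReg.isInvertible_twist (n := 2) (k := k) s) *
      clsMod (CMReg.isInvertible_twist (n := 2) (k := k) t) =
      clsMod (CMReg.isInvertible_twist (n := 2) (k := k) (s + t)) := fun s t => by
    rw [← Cube.clsMod_tensorMod]
    exact (Cube.clsMod_eq_iff _ _).2 (CMReg.nonempty_twist_add (n := 2) (k := k) rfl)
  have hone : clsMod (CMReg.isInvertible_twist (n := 2) (k := k) 0) = 1 :=
    (Cube.clsMod_eq_one_iff _).2 (CMReg.nonempty_twist_zero (n := 2) (k := k))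
  have hone1 : clsMod (CMReg.isInvertible_twist (n := 1) (k := k) 0) = 1 :=
    (Cube.clsMod_eq_one_iff _).2 (CMReg.nonempty_twist_zero (n := 1) (k := k))
  have hχ2 : ∀ s : ℤ, 2 * chi k (clsMod (CMReg.isInvertible_twist (n := 2) (k := k) s)) = (s + 1) * (s + 2) := fun s => by
    rw [← euler_eq_chi k, euler_plane k s]
  have hχ1 : ∀ s : ℤ, chi k (clsMod (CMReg.isInvertible_twist (n := 1) (k := k) s)) = s + 1 := fun s => by
    rw [← euler_eq_chi k]
    exact CurveMult.P1Split.euler_O1 k s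
  have hdl := CurveMult.P1Split.dim_le k
  obtain ⟨-, -, -, -, -, -, s0⟩ := HypSq28.seq k j hover hI hdl 1
  obtain ⟨-, -, -, -, -, -, s1⟩ := HypSq28.seq k j hover hI hdl (clsMod hT1)
  rw [one_mul, map_one, hcm, ← hone, ← hone1, hχ1] at s0
  rw [hpull, hχ1, hcm, hadd] at s1
  have a0 := hχ2 0
  have a1 := hχ2 1
  have am := hχ2 m
  have am1 := hχ2 (1 + m)
  have hm : m = -1 := by nlinarith [s0, s1, a0, a1, am, am1]
  rw [hcm, hm]

end GrothLib.BlowPt28
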