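import Groth.Agent.Lib.RatSing29.SeqH1
import Groth.Agent.Lib.BlowUpRegular.Cover
import Groth.Agent.Lib.Rat20Ext.Basic
import Groth.Agent.Lib.RelVanish.Basic
import Groth.Agent.Lib.ZClos.Basic
import Groth.Agent.Lib.Nagata6.ExtendIdeal
import Groth.Agent.Lib.BlowUpProper.Basic
import Groth.Agent.S0010
import Groth.Agent.S2348

/-!
# Direct images of the structure sheaf along the blow-up of a regular surface point
-/

universe u

set_option autoImplicit false
set_option linter.all false
set_option backward.isDefEq.respectTransparency false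

open CategoryTheory CategoryTheory.Limits AlgebraicGeometry Opposite TopologicalSpace Abelian
open GrothLib.Cohom

noncomputable section

namespace GrothLib.BlowPt28

/-- Vanishing on an open subscheme gives vanishing on the open. -/
theorem subsingleton_ext_open {X : Scheme.{u}} (U : X.Opens) (p : ℕ)
    (h : Subsingleton (Ext.{u} (freeFun.obj (⊤ : (U : Scheme.{u}).Opens))
      (Coh.toAb (Coh.structureModule (U : Scheme.{u}))) p)) :
    Subsingleton (Ext.{u} (freeFun.obj U) (Coh.toAb (Coh.structureModule X)) p) := by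
  have hj := Scheme.Hom.isOpenEmbedding U.ι
  obtain ⟨c⟩ := nonempty_comparison_restrFun hj (⊤ : (U : Scheme.{u}).Opens) p
  have e := c.equiv (Coh.toAb (Coh.structureModule X)) trivial
  have hU : hj.isOpenMap.functor.obj (⊤ : (U : Scheme.{u}).Opens) = U := U.ι_image_top
  rw [hU] at e
  exact @Equiv.subsingleton _ _ e.toEquiv h

/-- Sections below an open on which the restriction has bijective maps on sections. -/
theorem bijective_app_of_le {A Z : Scheme.{u}} (φ : A ⟶ Z) (U : Z.Opens)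
    (h : ∀ T : U.toScheme.Opens, IsIso ((φ ∣_ U).app T)) {T : Z.Opens} (hT : T ≤ U) :
    Function.Bijective (φ.app T).hom := by
  obtain ⟨T', rfl⟩ : ∃ T' : U.toScheme.Opens, U.ι ''ᵁ T' = T :=
    ⟨U.ι ⁻¹ᵁ T, by rw [Scheme.Hom.image_preimage_eq_opensRange_inf, Scheme.Opens.opensRange_ι, inf_eq_right.2 hT]⟩
  haveI := h T'
  have h1 := ConcreteCategory.bijective_of_isIso ((φ ∣_ U).app T')
  rw [morphismRestrict_app] at h1
  let m := A.presheaf.map (eqToHom (image_morphismRestrict_preimage φ U T')).op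
  refine ⟨fun a b hab => h1.1 (congrArg m.hom hab), fun y => ?_⟩
  obtain ⟨s, hs⟩ := h1.2 (m.hom y)
  exact ⟨s, (ConcreteCategory.bijective_of_isIso m).1 hs⟩

variable {X X' : Scheme.{u}} [IsLocallyNoetherian X] (hreg : ∀ y : X, IsRegularLocalRing (X.presheaf.stalk y))
  {x : X} (hx : IsClosed ({x} : Set X)) (hd : ringKrullDim (X.presheaf.stalk x) = 2) {b : X' ⟶ X}
  (hb : _root_.BlowUp.IsBlowUp b (Scheme.IdealSheafData.vanishingIdeal ⟨{x}, hx⟩))

include hreg hd hb in
/-- The functions on the blow-up are the functions on the surface. -/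
theorem isIso_app (O : X.Opens) : IsIso (b.app O) := by
  haveI : IsProper b := GrothLib.BlowUpProper.isProper_of_isBlowUp hb
  haveI := hreg x
  haveI : IsDomain (X.presheaf.stalk x) := GrothLib.CMFree.isDomain_of_isRegularLocalRing _
  obtain ⟨W₀, hxW, hW⟩ := GrothLib.Rat20Ext.exists_integral_nhd (X := X) x
  haveI := hW
  set J := Scheme.IdealSheafData.vanishingIdeal (⟨{x}, hx⟩ : Closeds X) with hJ
  have hJs : ∀ w : X, w ∈ (J.support : Set X) ↔ w = x := fun w => by
    rw [Scheme.IdealSheafData.coe_support_vanishingIdeal]; rfl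
  set J₀ := J.comap W₀.ι
  have hgen : genericPoint (W₀ : Scheme.{u}) ∉ (J₀.support : Set (W₀ : Scheme.{u})) := by
    rw [Scheme.IdealSheafData.support_comap]
    intro h
    have h1 : W₀.ι (genericPoint (W₀ : Scheme.{u})) = x := (hJs _).1 h
    have h2 : (⟨x, hxW⟩ : (W₀ : Scheme.{u})) = genericPoint (W₀ : Scheme.{u}) := Subtype.ext h1.symm
    have h3 := ringKrullDim_eq_of_ringEquiv (asIso (W₀.ι.stalkMap ⟨x, hxW⟩)).commRingCatIsoToRingEquiv
    have h4 : ringKrullDim ((W₀ : Scheme.{u}).presheaf.stalk ⟨x, hxW⟩) = 0 := by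
      rw [h2]; exact ringKrullDim_eq_zero_of_field (W₀ : Scheme.{u}).functionField
    have h5 : ringKrullDim (X.presheaf.stalk x) = 0 := h3.trans h4
    rw [hd] at h5
    norm_num at h5
  have hJ0 : J₀ ≠ ⊥ := fun h => hgen (by rw [h, Scheme.IdealSheafData.support_bot]; trivial)
  have hb₀ : _root_.BlowUp.IsBlowUp (b ∣_ W₀) J₀ := GrothLib.Nagata6.isBlowUp_restrict hb W₀
  haveI : IsIntegral ((b ⁻¹ᵁ W₀ : X'.Opens) : Scheme.{u}) := (Groth.Agent.S2348.result _ hJ0 _ hb₀).choose
  have hloc : ∀ T : (W₀ : Scheme.{u}).Opens, IsIso ((b ∣_ W₀).app T) := fun T => by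
    refine GrothLib.RatSing29.isIso_app_of_birational (b ∣_ W₀) (fun w => ?_) J₀.support.compl
      ⟨_, hgen⟩ (GrothLib.BlowUp.isIso_off_center hb₀) T
    haveI := hreg (W₀.ι w)
    haveI : IsRegularLocalRing ((W₀ : Scheme.{u}).presheaf.stalk w) :=
      IsRegularLocalRing.of_ringEquiv (R := X.presheaf.stalk (W₀.ι w))
        (asIso (W₀.ι.stalkMap w)).commRingCatIsoToRingEquiv
    exact RegLoc.isIntegrallyClosed_of_isRegularLocalRing _
  haveI := GrothLib.BlowUp.isIso_off_center hb
  have hoff : ∀ T : ((J.support.compl : X.Opens) : Scheme.{u}).Opens, IsIso ((b ∣_ J.support.compl).app T) :=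
    fun T => inferInstance
  haveI : IsIso (ClSub.unitToPush b) := GrothLib.ZClosure.isIso_of_basis _ fun w U hw => by
    by_cases h : w = x
    · exact ⟨W₀ ⊓ U, ⟨h ▸ hxW, hw⟩, inf_le_right, bijective_app_of_le b W₀ hloc inf_le_left⟩
    · exact ⟨J.support.compl ⊓ U, ⟨fun h' => h ((hJs w).1 h'), hw⟩, inf_le_right,
        bijective_app_of_le b _ hoff inf_le_left⟩
  rw [ConcreteCategory.isIso_iff_bijective]
  exact GrothLib.ZClosure.app_bijective_of_isIso (ClSub.unitToPush b) O

include hreg hd hb in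
/-- The higher direct images of the structure sheaf vanish. -/
theorem isZero_Rpush (p : ℕ) (hp : 1 ≤ p) :
    IsZero ((Coh.RpushAb b p).obj (Coh.toAb (Coh.structureModule X'))) := by
  haveI : IsProper b := GrothLib.BlowUpProper.isProper_of_isBlowUp hb
  haveI : (Coh.structureModule X').IsQuasicoherent := Cohom.isQuasicoherent_structureModule X'
  set J := Scheme.IdealSheafData.vanishingIdeal (⟨{x}, hx⟩ : Closeds X) with hJ
  have hJs : ∀ w : X, w ∈ (J.support : Set X) ↔ w = x := fun w => by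
    rw [Scheme.IdealSheafData.coe_support_vanishingIdeal]; rfl
  haveI := GrothLib.BlowUp.isIso_off_center hb
  haveI := hreg x
  obtain ⟨V, hxV, a, ha, -, -⟩ := GrothLib.ExcP1.exists_affine_params hx hd
  refine GrothLib.RelVanish.isZero_RpushAb_of_cover b _ p
    (I := Option {W : X.affineOpens // W.1 ≤ J.support.compl})
    (fun o => o.elim V.1 fun W => W.1.1) (fun o => ?_) (fun w => ?_) ?_
  · rcases o with _ | W
    · exact V.2
    · exact W.1.2
  · by_cases h : w = x
    · exact ⟨none, h ▸ hxV⟩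
    · obtain ⟨_, ⟨U, hU, rfl⟩, hwU, hUc⟩ := X.isBasis_affineOpens.exists_subset_of_mem_open
        (show w ∈ J.support.compl from fun h' => h ((hJs w).1 h')) J.support.compl.isOpen
      exact ⟨some ⟨⟨U, hU⟩, hUc⟩, hwU⟩
  rintro (_ | W)
  · show Subsingleton (Ext.{u} (freeFun.obj (b ⁻¹ᵁ V.1)) _ p)
    refine subsingleton_ext_open (b ⁻¹ᵁ V.1) p ?_
    let e : ((b ⁻¹ᵁ V.1 : X'.Opens) : Scheme.{u}) ⟶ pullback V.2.fromSpec b :=
      pullback.lift ((b ∣_ V.1) ≫ V.2.isoSpec.hom) (b ⁻¹ᵁ V.1).ι (by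
        rw [Category.assoc, ← morphismRestrict_ι]
        congr 1
        exact V.2.isoSpec_hom_fromSpec)
    have sq : IsPullback ((b ∣_ V.1) ≫ V.2.isoSpec.hom) (b ⁻¹ᵁ V.1).ι V.2.fromSpec b :=
      IsPullback.of_iso (isPullback_morphismRestrict b V.1) (Iso.refl _) V.2.isoSpec (Iso.refl _) (Iso.refl _)
        (by simp) (by simp) (by simp [V.2.isoSpec_hom_fromSpec]) (by simp)
    haveI : IsIso e := by
      have : e = sq.isoPullback.hom := pullback.hom_ext (by simp [e]) (by simp [e])
      rw [this]; infer_instance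
    have hbl := GrothLib.BlowUp.isBlowUp_flat_baseChange V.2.fromSpec hb
    rw [show J.comap V.2.fromSpec = GrothLib.BlowUp.idealSheaf (GrothLib.BlowUp17.ctr a) by
      rw [GrothLib.Nagata6.comap_fromSpec, ha]] at hbl
    have hbl' := GrothLib.ArSurf29.isBlowUp_iso_comp hbl e
    rcases Nat.lt_or_ge p 2 with hp2 | hp2
    · obtain rfl : p = 1 := by omega
      exact GrothLib.RatSing29.subsingleton_h1 a hbl' _ GrothLib.CurveMult.isGloballyGenerated_structure
    · obtain ⟨hsep, U, hU, hcov⟩ := GrothLib.BlowUpRegular.exists_affine_cover a hbl'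
      haveI := hsep
      haveI : Coh.IsQCoh (Coh.structureModule (b ⁻¹ᵁ V.1 : X'.Opens).toScheme) :=
        Cohom.isQuasicoherent_structureModule _
      haveI := Groth.Agent.S0010.result _ _ U hU hcov (fun A B hA hB => hA.inf hB)
        (Coh.structureModule (b ⁻¹ᵁ V.1 : X'.Opens).toScheme) p hp2
      exact (HEquivTop (Coh.toAb (Coh.structureModule (b ⁻¹ᵁ V.1 : X'.Opens).toScheme)) p).symm.toEquiv.subsingleton
  · show Subsingleton (Ext.{u} (freeFun.obj (b ⁻¹ᵁ W.1.1)) _ p)
    haveI := GrothLib.Nagata6.isIso_restrict_of_le b _ _ W.2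
    haveI : IsAffine (W.1.1 : Scheme.{u}) := W.1.2
    obtain ⟨q, rfl⟩ : ∃ q, p = q + 1 := ⟨p - 1, by omega⟩
    exact subsingleton_ext_freeFun_of_isAffineOpen (IsAffine.of_isIso (b ∣_ W.1.1) : IsAffineOpen (b ⁻¹ᵁ W.1.1)) _ q

include hreg hd hb in
/-- `R^p b_* O = 0` as modules. -/
theorem isZero_Rpush_module [HasInjectiveResolutions X'.Modules] (p : ℕ) (hp : 1 ≤ p) :
    IsZero ((Coh.Rpush b p).obj (Coh.structureModule X')) := by
  haveI : (QCoh.toAbFun X).Faithful := inferInstanceAs (SheafOfModules.toSheaf _).Faithful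
  obtain ⟨e⟩ := Groth.Agent.S11319.result b (Coh.structureModule X') p
  have h : IsZero ((QCoh.toAbFun X).obj ((Coh.Rpush b p).obj (Coh.structureModule X'))) :=
    (isZero_Rpush hreg hx hd hb p hp).of_iso e
  rw [IsZero.iff_id_eq_zero] at h ⊢
  apply (QCoh.toAbFun X).map_injective
  rw [CategoryTheory.Functor.map_id, Functor.map_zero]
  exact h

end GrothLib.BlowPt28
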